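import Cfsg.Agent.Lib.H59.F4Graph.WeylList

/-! Eigenvectors of Weyl group matrices of type F4 modulo primes at least five. -/

set_option autoImplicit false

namespace Cfsg.Agent.Lib.H59.F4Graph

open Cfsg.Lie Cfsg.Agent.Lib.Chev Cfsg.Agent.Lib.H59.Homocyclic
open scoped Matrix

variable {s : ℕ} [Fact s.Prime]

/-- A matrix of the list modulo `s`. -/
def wmod (s k : ℕ) : Matrix (Fin 4) (Fin 4) (ZMod s) := (wmat k).map (Int.castRingHom (ZMod s))

theorem u23_ne_zero (hs : 5 ≤ s) {d : ℤ} (hd : u23 d = true) : (d : ZMod s) ≠ 0 := by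
  have hp : s.Prime := Fact.out
  rw [Ne, ZMod.intCast_zmod_eq_zero_iff_dvd, Int.natCast_dvd]
  intro h
  have h1 : s ∣ 2 ^ 8 * 3 ^ 5 := h.trans (Nat.dvd_of_mod_eq_zero (by simpa [u23] using hd))
  rcases (Nat.Prime.dvd_mul hp).1 h1 with h2 | h2
  · have := Nat.le_of_dvd (by norm_num) (hp.dvd_of_dvd_pow h2); omega
  · have := Nat.le_of_dvd (by norm_num) (hp.dvd_of_dvd_pow h2); omega

theorem phiEnt_eq (c : ℤ) (k : ℕ) (a b : Fin 4) :
    (wmat k * wmat k - c • wmat k + 1) a b = phiEnt c (wget k) a.val b.val := by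
  simp only [Matrix.add_apply, Matrix.sub_apply, Matrix.smul_apply, smul_eq_mul, Matrix.mul_apply,
    Fin.sum_univ_four, wmat, Matrix.of_apply, Matrix.one_apply, phiEnt]
  congr 1
  by_cases e : a = b
  · subst e; simp
  · rw [if_neg e, beq_eq_false_iff_ne.2 (fun h => e (Fin.ext h))]; rfl

theorem phi_cast (c : ℤ) (k : ℕ) :
    (wmat k * wmat k - c • wmat k + 1).map (Int.castRingHom (ZMod s)) =
      wmod s k * wmod s k - (c : ZMod s) • wmod s k + 1 := by
  ext a b
  simp [wmod, Matrix.mul_apply, Matrix.one_apply, apply_ite (Int.cast : ℤ → ZMod s), -zsmul_eq_mul]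

theorem phi_mulVec (c : ℤ) (k : ℕ) {q : ZMod s} {e : Fin 4 → ZMod s} (he : wmod s k *ᵥ e = q • e) :
    (wmod s k * wmod s k - (c : ZMod s) • wmod s k + 1) *ᵥ e = (q * q - c * q + 1) • e := by
  rw [Matrix.add_mulVec, Matrix.sub_mulVec, Matrix.smul_mulVec, ← Matrix.mulVec_mulVec, Matrix.one_mulVec, he,
    Matrix.mulVec_smul, he, add_smul, sub_smul, one_smul, smul_smul, smul_smul]

theorem det_eq_zero_of_eigen (c : ℤ) (k : ℕ) {q : ZMod s} (hq : q * q - c * q + 1 = 0) {e : Fin 4 → ZMod s}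
    (he0 : e ≠ 0) (he : wmod s k *ᵥ e = q • e) : (det4 (phiEnt c (wget k)) : ZMod s) = 0 := by
  have h1 : (wmod s k * wmod s k - (c : ZMod s) • wmod s k + 1).det = 0 :=
    Matrix.exists_mulVec_eq_zero_iff.1 ⟨e, he0, by rw [phi_mulVec c k he, hq, zero_smul]⟩
  rw [← phi_cast c k] at h1
  have h2 := (Int.castRingHom (ZMod s)).map_det (wmat k * wmat k - c • wmat k + 1)
  rw [RingHom.mapMatrix_apply, h1, four_det _ _ (phiEnt_eq c k)] at h2
  exact h2

/-- Two of the quadratics cannot have eigenvectors together. -/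
theorem not_both {r : ℕ} [Fact r.Prime] (hr : 5 ≤ r) (hs : 5 ≤ s) {k : ℕ} (hk : k < 1152) {c c' : ℤ}
    (hc : c = -1 ∨ c = 0 ∨ c = 1) (hc' : c' = -1 ∨ c' = 0 ∨ c' = 1) (hne : c ≠ c')
    {q : ZMod r} (hq : q * q - c * q + 1 = 0) {e : Fin 4 → ZMod r} (he0 : e ≠ 0) (he : wmod r k *ᵥ e = q • e)
    {q' : ZMod s} (hq' : q' * q' - c' * q' + 1 = 0) {e' : Fin 4 → ZMod s} (he0' : e' ≠ 0)
    (he' : wmod s k *ᵥ e' = q' • e') : False := by
  have a := det_eq_zero_of_eigen c k hq he0 he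
  have b := det_eq_zero_of_eigen c' k hq' he0' he'
  have na : u23 (det4 (phiEnt c (wget k))) = false := by
    by_contra h
    exact u23_ne_zero hr (Bool.not_eq_false _ ▸ h) a
  have nb : u23 (det4 (phiEnt c' (wget k))) = false := by
    by_contra h
    exact u23_ne_zero hs (Bool.not_eq_false _ ▸ h) b
  have h := (checks hk).2.1
  simp only [chkPairs, Bool.and_eq_true, Bool.or_eq_true] at h
  rcases hc with rfl | rfl | rfl <;> rcases hc' with rfl | rfl | rfl <;> simp_all

/-- An eigenspace of dimension two makes the quadratic vanish, and is spanned by any two independent vectors. -/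
theorem eigen_two (hs : 5 ≤ s) {k : ℕ} (hk : k < 1152) (hform : (wmat k)ᵀ * formMat * wmat k = formMat) {c : ℤ}
    (hc : c = -1 ∨ c = 0 ∨ c = 1) {q : ZMod s} (hq : q * q - c * q + 1 = 0) (hq2 : q * q ≠ 1)
    {x : Fin 2 → Fin 4 → ZMod s} (hind : LinearIndependent (ZMod s) x) (hx : ∀ i, wmod s k *ᵥ x i = q • x i) :
    phiZero c (wget k) = true ∧
      ∀ e, wmod s k *ᵥ e = q • e → e ∈ Submodule.span (ZMod s) (Set.range x) := by
  classical
  set W := wmod s k with hW
  set B : Matrix (Fin 4) (Fin 4) (ZMod s) := formMat.map (Int.castRingHom (ZMod s)) with hB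
  have hWB : Wᵀ * B * W = B := by
    rw [hB, hW, wmod, ← Matrix.transpose_map, ← Matrix.map_mul, ← Matrix.map_mul, hform]
  have hinv : ∀ a b, (W *ᵥ a) ⬝ᵥ (B *ᵥ (W *ᵥ b)) = a ⬝ᵥ (B *ᵥ b) := by
    intro a b
    rw [Matrix.mulVec_mulVec, Matrix.dotProduct_mulVec, Matrix.vecMul_mulVec, ← Matrix.dotProduct_mulVec,
      ← Matrix.mul_assoc, hWB]
  set β := Matrix.toBilin' B with hβ
  have hβa : ∀ a b, β a b = a ⬝ᵥ (B *ᵥ b) := fun a b => by rw [hβ, Matrix.toBilin'_apply']
  have hdet : B.det ≠ 0 := by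
    have h2 := (Int.castRingHom (ZMod s)).map_det formMat
    rw [RingHom.mapMatrix_apply, ← hB, formMat_det] at h2
    rw [← h2]
    exact u23_ne_zero hs (by decide +kernel)
  have hnd : β.Nondegenerate := Matrix.nondegenerate_toBilin'_iff.2 (Matrix.nondegenerate_of_det_ne_zero hdet)
  have hBt : Bᵀ = B := by
    rw [hB, ← Matrix.transpose_map]
    exact congrArg (fun M : Matrix (Fin 4) (Fin 4) ℤ => M.map (Int.castRingHom (ZMod s)))
      (show formMatᵀ = formMat by decide +kernel)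
  have hsymm : ∀ a b, β a b = β b a := fun a b => by
    rw [hβa, hβa, Matrix.dotProduct_mulVec, ← Matrix.mulVec_transpose, hBt, dotProduct_comm]
  have hrefl : β.IsRefl := fun a b h => by rw [hsymm]; exact h
  set E := LinearMap.ker (W.mulVecLin - q • (1 : (Fin 4 → ZMod s) →ₗ[ZMod s] Fin 4 → ZMod s)) with hE
  have memE : ∀ e, e ∈ E ↔ W *ᵥ e = q • e := fun e => by simp [hE, sub_eq_zero]
  set S := Submodule.span (ZMod s) (Set.range x) with hS
  have hSE : S ≤ E := Submodule.span_le.2 (by rintro _ ⟨i, rfl⟩; exact (memE _).2 (hx i))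
  have hiso : ∀ a ∈ E, ∀ b ∈ E, β a b = 0 := by
    intro a ha b hb
    have h1 := hinv a b
    rw [(memE a).1 ha, (memE b).1 hb, Matrix.mulVec_smul, smul_dotProduct, dotProduct_smul, smul_eq_mul,
      smul_eq_mul, ← mul_assoc] at h1
    rw [hβa]
    by_contra h0
    exact hq2 ((mul_eq_right₀ h0).1 h1)
  set O := β.orthogonal S with hO
  have hEO : E ≤ O := fun e he => by
    rw [hO, LinearMap.BilinForm.mem_orthogonal_iff]
    exact fun n hn => hiso n (hSE hn) e he
  have hdS : Module.finrank (ZMod s) ↥S = 2 := by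
    rw [hS, finrank_span_eq_card hind, Fintype.card_fin]
  have hdO : Module.finrank (ZMod s) ↥O = 2 := by
    rw [hO, LinearMap.BilinForm.finrank_orthogonal hnd, hdS, Module.finrank_fin_fun]
  have hSO : S = O := Submodule.eq_of_le_of_finrank_eq (hSE.trans hEO) (by rw [hdS, hdO])
  refine ⟨?_, fun e he => hSO ▸ hEO ((memE e).2 he)⟩
  set qb : ZMod s := (c : ZMod s) - q with hqb
  have hqq : q * qb = 1 := by rw [hqb]; linear_combination -hq
  have hall : ∀ v, (W * W - (c : ZMod s) • W + 1) *ᵥ v = 0 := by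
    intro v
    have h1 : W *ᵥ v - qb • v ∈ O := by
      rw [hO, LinearMap.BilinForm.mem_orthogonal_iff]
      intro n hn
      show β n (W *ᵥ v - qb • v) = 0
      have e1 := hinv n v
      rw [(memE n).1 (hSE hn), smul_dotProduct, smul_eq_mul] at e1
      rw [map_sub, map_smul, hβa, hβa, smul_eq_mul]
      linear_combination qb * e1 - (n ⬝ᵥ (B *ᵥ (W *ᵥ v))) * hqq
    have h2 := (memE _).1 (hSE (hSO ▸ h1))
    rw [Matrix.mulVec_sub, Matrix.mulVec_smul, smul_sub, smul_smul, hqq, one_smul] at h2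
    rw [Matrix.add_mulVec, Matrix.sub_mulVec, Matrix.smul_mulVec, ← Matrix.mulVec_mulVec, Matrix.one_mulVec]
    have h3 : (c : ZMod s) • (W *ᵥ v) = q • (W *ᵥ v) + qb • (W *ᵥ v) := by
      rw [← add_smul, hqb, add_sub_cancel]
    rw [h3]
    calc W *ᵥ (W *ᵥ v) - (q • (W *ᵥ v) + qb • (W *ᵥ v)) + v
        = (W *ᵥ (W *ᵥ v) - qb • (W *ᵥ v)) - (q • (W *ᵥ v) - v) := by abel
      _ = 0 := by rw [h2, sub_self]
  have hzero : ∀ a b : Fin 4, (phiEnt c (wget k) a.val b.val : ZMod s) = 0 := by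
    intro a b
    have e1 := congrFun (congrFun (phi_cast (s := s) c k) a) b
    rw [Matrix.map_apply, phiEnt_eq] at e1
    have e2 := congrFun (hall (Pi.single b 1)) a
    rw [Matrix.mulVec_single_one, Pi.zero_apply] at e2
    exact e1.trans e2
  have h := ((checks hk).2.2 c hc).1
  simp only [chkZero, Bool.or_eq_true, List.any_eq_true, List.mem_range] at h
  rcases h with h | ⟨a, ha, b, hb, hu⟩
  · exact h
  · exact absurd (hzero ⟨a, ha⟩ ⟨b, hb⟩) (u23_ne_zero hs hu)

/-- When the quadratic vanishes no root kills the whole eigenspace. -/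
theorem exists_eigen_apply_ne (hs : 5 ≤ s) {k : ℕ} (hk : k < 1152) {c : ℤ} (hc : c = -1 ∨ c = 0 ∨ c = 1)
    (hz : phiZero c (wget k) = true) {q : ZMod s} (hq : q * q - c * q + 1 = 0) (i : Fin 48) :
    ∃ e : Fin 4 → ZMod s, wmod s k *ᵥ e = q • e ∧ ∑ a : Fin 4, (chevF4.cartan a.val i.val : ZMod s) * e a ≠ 0 := by
  classical
  by_contra hcon
  push Not at hcon
  set qb : ZMod s := (c : ZMod s) - q with hqb
  have hW : wmod s k * wmod s k = (c : ZMod s) • wmod s k - 1 := by
    have : wmod s k * wmod s k - (c : ZMod s) • wmod s k + 1 = 0 := by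
      rw [← phi_cast c k]
      ext a b
      simp only [phiZero, List.all_eq_true, List.mem_range, decide_eq_true_eq] at hz
      rw [Matrix.map_apply, phiEnt_eq, hz a.val a.2 b.val b.2]
      simp
    rw [← sub_eq_zero]
    rw [← this]; abel
  set p : Fin 4 → ZMod s := fun a => (chevF4.cartan a.val i.val : ZMod s) with hp
  have hrow : ∀ b, (p ᵥ* wmod s k) b = qb * p b := by
    intro b
    set e := wmod s k *ᵥ Pi.single b 1 - qb • (Pi.single b 1 : Fin 4 → ZMod s) with he
    have h1 : wmod s k *ᵥ e = q • e := by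
      rw [he, Matrix.mulVec_sub, Matrix.mulVec_smul, Matrix.mulVec_mulVec, hW, Matrix.sub_mulVec, Matrix.smul_mulVec,
        Matrix.one_mulVec, smul_sub, smul_smul, show q * qb = 1 by rw [hqb]; linear_combination -hq, one_smul,
        show (c : ZMod s) = q + qb by rw [hqb]; ring, add_smul]
      abel
    have h2 : p ⬝ᵥ e = 0 := hcon e h1
    rw [he, dotProduct_sub, dotProduct_smul, Matrix.dotProduct_mulVec, dotProduct_single, dotProduct_single,
      mul_one, mul_one, smul_eq_mul, sub_eq_zero] at h2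
    exact h2
  have hm := ((checks hk).2.2 c hc).2 hz i.val i.2
  simp only [chkMinor, List.any_eq_true, List.mem_range] at hm
  obtain ⟨a, ha, b, hb, hu⟩ := hm
  refine u23_ne_zero hs hu ?_
  have e1 := hrow ⟨a, ha⟩
  have e2 := hrow ⟨b, hb⟩
  simp only [Matrix.vecMul, dotProduct, Fin.sum_univ_four, wmod, Matrix.map_apply, wmat, Matrix.of_apply, hp,
    Int.coe_castRingHom, Fin.val_zero, Fin.val_one, Fin.val_two, show ((3 : Fin 4) : ℕ) = 3 from rfl] at e1 e2
  push_cast
  linear_combination (chevF4.cartan a i.val : ZMod s) * e2 - (chevF4.cartan b i.val : ZMod s) * e1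

end Cfsg.Agent.Lib.H59.F4Graph
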