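import Cfsg.Agent.Lib.H59.F4Graph.Setting
import Cfsg.Agent.Lib.H59.F4Graph.Eigen

/-! Pairs of primes at least five with orders of `q` among three, four and six, in type F4. -/

set_option autoImplicit false

namespace Cfsg.Agent.Lib.H59.F4Graph

open Cfsg.Lie Cfsg.Agent.Lib.Chev Cfsg.Agent.Lib.ChevField Cfsg.Agent.Lib.H59.Homocyclic
open scoped Matrix

universe u

/-- The coefficient of the quadratic of a degree among three, four and six. -/
def coefOf (k : ℕ) : ℤ := if k = 3 then -1 else if k = 4 then 0 else 1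

theorem coefOf_mem (k : ℕ) : coefOf k = -1 ∨ coefOf k = 0 ∨ coefOf k = 1 := by
  unfold coefOf; split_ifs <;> simp

theorem quad_of_order {r : ℕ} [Fact r.Prime] {q : ZMod r} {k : ℕ} (hk : k = 3 ∨ k = 4 ∨ k = 6)
    (hq : orderOf q = k) : q * q - coefOf k * q + 1 = 0 ∧ q * q ≠ 1 := by
  have h2 : ¬ k ∣ 2 := by rcases hk with rfl | rfl | rfl <;> decide
  have hne : q * q ≠ 1 := fun e => h2 (hq ▸ orderOf_dvd_of_pow_eq_one (by rw [pow_two]; exact e))
  refine ⟨?_, hne⟩
  have hpow := pow_orderOf_eq_one q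
  rcases hk with rfl | rfl | rfl <;> rw [hq] at hpow <;> simp only [coefOf] <;> norm_num
  · have h1 : (q - 1) * (q * q + q + 1) = 0 := by linear_combination hpow
    have : q - 1 ≠ 0 := fun e => hne (by rw [sub_eq_zero.1 e]; ring)
    linear_combination (mul_eq_zero.1 h1).resolve_left this
  · have h1 : (q * q - 1) * (q * q + 1) = 0 := by linear_combination hpow
    linear_combination (mul_eq_zero.1 h1).resolve_left (sub_ne_zero.2 hne)
  · have h3 : q ^ 3 ≠ 1 := fun e => by
      have := orderOf_dvd_of_pow_eq_one e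
      rw [hq] at this
      norm_num at this
    have h1 : (q ^ 3 - 1) * ((q + 1) * (q * q - q + 1)) = 0 := by linear_combination hpow
    have h4 : q + 1 ≠ 0 := fun e => hne (by linear_combination (q - 1) * e)
    linear_combination (mul_eq_zero.1 ((mul_eq_zero.1 h1).resolve_left (sub_ne_zero.2 h3))).resolve_left h4

variable {F : Type u} [Field F] [Fintype F]

theorem natCast_ext {r k : ℕ} [Fact r.Prime] {Q : ℕ} (hQ : Q = Fintype.card F ^ k)
    (h : orderOf (Fintype.card F : ZMod r) ∣ k) : (Q : ZMod r) = 1 := by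
  rw [hQ, Nat.cast_pow]
  exact orderOf_dvd_iff_pow_eq_one.1 h

theorem dvd_units {r Q : ℕ} [Fact r.Prime] (hQ0 : 1 ≤ Q) (h : (Q : ZMod r) = 1) : r ∣ Q - 1 := by
  rw [← ZMod.natCast_eq_zero_iff, Nat.cast_sub hQ0, h, Nat.cast_one, sub_self]

theorem pow_p_tor {K : Type} [Field K] {m : ℕ} (z : Multiplicative (ZMod m) →* Kˣ)
    (a : Fin chevF4.nroots → ZMod m) : tor z (Multiplicative.ofAdd a) ^ m = 1 := by
  rw [← tor_smul, ZMod.natCast_self, zero_smul, ofAdd_zero, map_one]

/-- Distinct orders among three, four and six cannot commute. -/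
theorem not_commute {r s : ℕ} [Fact r.Prime] [Fact s.Prime] (hr : 5 ≤ r) (hs : 5 ≤ s) {k l : ℕ}
    (hk : k = 3 ∨ k = 4 ∨ k = 6) (hl : l = 3 ∨ l = 4 ∨ l = 6) (hkl : k ≠ l)
    (hqr : orderOf (Fintype.card F : ZMod r) = k) (hqs : orderOf (Fintype.card F : ZMod s) = l)
    {x y : ↥(chevF4.group F)} (hx : orderOf x = r) (hy : orderOf y = s) (hxy : Commute x y) : False := by
  classical
  obtain ⟨K, _, _, f, σ, hK, hσ, hσf, -⟩ := exists_ext F (d := k * l) (by rcases hk with rfl | rfl | rfl <;> omega)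
  have hQr : (Fintype.card K : ZMod r) = 1 := natCast_ext hK (hqr ▸ Dvd.intro l rfl)
  have hQs : (Fintype.card K : ZMod s) = 1 := natCast_ext hK (hqs ▸ Dvd.intro_left k rfl)
  haveI : NeZero r := ⟨(Fact.out : r.Prime).ne_zero⟩
  haveI : NeZero s := ⟨(Fact.out : s.Prime).ne_zero⟩
  obtain ⟨zr, hzr⟩ := exists_zmodHom (K := K) (m := r)
    (by rw [Nat.card_eq_fintype_card]; exact dvd_units Fintype.card_pos hQr) (NeZero.pos r)
  obtain ⟨zs, hzs⟩ := exists_zmodHom (K := K) (m := s)
    (by rw [Nat.card_eq_fintype_card]; exact dvd_units Fintype.card_pos hQs) (NeZero.pos s)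
  obtain ⟨B, hB⟩ := exists_unimodular
  set T := (chevF4.diagonalSubgroup K).subgroupOf (chevF4.group K) with hT
  obtain ⟨g1, -, hg1⟩ := exists_conj_le (T := T) (H := ⊤) (P := Subgroup.zpowers (incl f y)) (r := s) le_top le_top
    ((IsPGroup.of_card (n := 1) (by rw [Nat.card_zpowers, hy, pow_one])).map (incl f) |>.of_equiv
      (MulEquiv.subgroupCongr (MonoidHom.map_zpowers (incl f) y))) (factorization_le_diag K hs hQs)
  have hy1 := hg1 _ (Subgroup.mem_zpowers _)
  set y1 := g1 * incl f y * g1⁻¹ with hy1def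
  set H := Subgroup.centralizer ({y1} : Set ↥(chevF4.group K)) with hH
  have hTH : T ≤ H := fun t ht => Subgroup.mem_centralizer_singleton_iff.2
    (Subtype.ext (rootedF4.diagonal_commute ht hy1))
  set x1 := g1 * incl f x * g1⁻¹ with hx1def
  have hx1H : x1 ∈ H := Subgroup.mem_centralizer_singleton_iff.2 (by
    have := congrArg (incl f) hxy.eq
    rw [map_mul, map_mul] at this
    rw [hx1def, hy1def]
    calc g1 * incl f x * g1⁻¹ * (g1 * incl f y * g1⁻¹) = g1 * (incl f x * incl f y) * g1⁻¹ := by group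
      _ = g1 * (incl f y * incl f x) * g1⁻¹ := by rw [this]
      _ = _ := by group)
  have hox : orderOf x1 = r := by
    rw [hx1def, ← MulAut.conj_apply, MulEquiv.orderOf_eq,
      orderOf_injective (incl f) (fun a b e => cmap_injective f 1 (by
        rw [cmap_apply, cmap_apply, show glMap chevF4 f (a : GL chevF4.Idx F) = glMap chevF4 f b from
          congrArg Subtype.val e])), hx]
  obtain ⟨g2, hg2H, hg2⟩ := exists_conj_le (T := T) (H := H) (P := Subgroup.zpowers x1) (r := r) hTH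
    (Subgroup.zpowers_le.2 hx1H) (IsPGroup.of_card (n := 1) (by rw [Nat.card_zpowers, hox, pow_one]))
    (factorization_le_diag K hr hQr)
  set g := g2 * g1 with hgdef
  have hgx : g * incl f x * g⁻¹ ∈ T := by
    have e := hg2 _ (Subgroup.mem_zpowers x1)
    rwa [show g * incl f x * g⁻¹ = g2 * x1 * g2⁻¹ by rw [hgdef, hx1def]; group]
  have hgy : g * incl f y * g⁻¹ ∈ T := by
    rwa [show g * incl f y * g⁻¹ = y1 by
      rw [show g * incl f y * g⁻¹ = g2 * y1 * g2⁻¹ by rw [hgdef, hy1def]; group,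
        Subgroup.mem_centralizer_singleton_iff.1 hg2H, mul_inv_cancel_right]]
  obtain ⟨la, hla⟩ := exists_vec rootedF4 hB hzr (t := cmap f g x) hgx
    (by rw [← map_pow, ← hx, pow_orderOf_eq_one, map_one])
  obtain ⟨lb, hlb⟩ := exists_vec rootedF4 hB hzs (t := cmap f g y) hgy
    (by rw [← map_pow, ← hy, pow_orderOf_eq_one, map_one])
  obtain ⟨L, u₁, t₁, u, hL, -, -, -, -, hfacts⟩ := twist_data rootedF4 (twistEl_mem σ g)
  obtain ⟨j, hj, -, hW⟩ := exists_index rootedF4 hL
  have key : ∀ (p : ℕ) [Fact p.Prime] (z : Multiplicative (ZMod p) →* Kˣ), Function.Injective z →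
      ∀ (w : ↥(chevF4.group F)) (lam : Fin chevF4.rank → ZMod p),
        tor z (Multiplicative.ofAdd (iota chevF4 (ZMod p) lam)) = cmap f g w → orderOf w = p →
          lam ≠ 0 ∧ wmod p j *ᵥ lam = (Fintype.card F : ZMod p) • lam := by
    intro p hp z hz w lam e hw
    refine ⟨fun h0 => ?_, ?_⟩
    · have h1 : cmap f g w = 1 := by
        rw [← e, h0, map_zero, ofAdd_zero, map_one]
      rw [cmap_injective f g (h1.trans (map_one _).symm), orderOf_one] at hw
      exact hp.out.one_lt.ne hw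
    · have h2 := (hfacts p z hz _ (Fintype.card F : ZMod p) ⟨lam, rfl⟩
        (twistEl_tor f σ hσf hσ g w e.symm)).1
      exact iotaF4_injective (ZMod p) (((hW (ZMod p) lam).trans h2).trans (map_smul _ _ _).symm)
  obtain ⟨ha0, ha⟩ := key r zr hzr x la hla hx
  obtain ⟨hb0, hb⟩ := key s zs hzs y lb hlb hy
  refine not_both hr hs hj (coefOf_mem k) (coefOf_mem l) ?_ (quad_of_order hk hqr).1 ha0 ha
    (quad_of_order hl hqs).1 hb0 hb
  rcases hk with rfl | rfl | rfl <;> rcases hl with rfl | rfl | rfl <;> simp [coefOf] at hkl ⊢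

/-- The same order among three, four and six gives an element of the product order. -/
theorem exists_commute {r s : ℕ} [Fact r.Prime] [Fact s.Prime] (hr : 5 ≤ r) (hs : 5 ≤ s) {k : ℕ}
    (hk : k = 3 ∨ k = 4 ∨ k = 6) (hrq : ¬ s ∣ Fintype.card F) (hsG : s ∣ Nat.card ↥(chevF4.group F))
    (hqr : orderOf (Fintype.card F : ZMod r) = k) (hqs : orderOf (Fintype.card F : ZMod s) = k) :
    ∃ x y : ↥(chevF4.group F), orderOf x = r ∧ orderOf y = s ∧ Commute x y := by
  classical
  set q := Fintype.card F with hq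
  have hps : s.Prime := Fact.out
  have hpr : r.Prime := Fact.out
  let P : Sylow s ↥(chevF4.group F) := Classical.ofNonempty
  obtain ⟨eP⟩ := homocyclic rootedF4 F4.smith_ok F4.chain_ok F4.poly_ok (by decide +kernel) (by decide +kernel) s
    (by omega) (fun i hi h => hps.not_dvd_one (sd_one i hi ▸ h)) (not_dvd_degs hs) hrq hsG P
  rw [hqs, show (F4.degs.filter fun e => k ∣ e).length = 2 by rcases hk with rfl | rfl | rfl <;> rfl] at eP
  set N := s ^ padicValNat s ((Polynomial.cyclotomic k ℤ).eval (q : ℤ)).natAbs with hN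
  obtain ⟨c, hc⟩ : ∃ c : Multiplicative (ZMod N), orderOf c = s := by
    refine exists_prime_orderOf_dvd_card' s ?_
    have h1 : s ∣ Nat.card ↥(P : Subgroup ↥(chevF4.group F)) := P.dvd_card_of_dvd_card hsG
    rw [Nat.card_congr eP.toEquiv, Nat.card_fun, Nat.card_fin] at h1
    exact hps.dvd_of_dvd_pow h1
  let xs : Fin 2 → ↥(chevF4.group F) := fun i => (eP.symm (Pi.mulSingle i c) : ↥(P : Subgroup ↥(chevF4.group F)))
  have hxs_pow : ∀ i, xs i ^ s = 1 := fun i => by
    have : (eP.symm (Pi.mulSingle i c)) ^ s = 1 := by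
      rw [← map_pow, ← Pi.mulSingle_pow, (congrArg (c ^ ·) hc.symm).trans (pow_orderOf_eq_one c), Pi.mulSingle_one, map_one]
    exact congrArg Subtype.val this
  have hcomm : ∀ i j, Commute (xs i) (xs j) := fun i j =>
    congrArg Subtype.val (show eP.symm (Pi.mulSingle i c) * eP.symm (Pi.mulSingle j c) =
      eP.symm (Pi.mulSingle j c) * eP.symm (Pi.mulSingle i c) by rw [← map_mul, ← map_mul, mul_comm])
  obtain ⟨K, _, _, f, σ, hK, hσ, hσf, hfix⟩ := exists_ext F (d := k) (by rcases hk with rfl | rfl | rfl <;> omega)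
  rw [← hq] at hK hσ
  have hQr : (Fintype.card K : ZMod r) = 1 := natCast_ext hK (hqr ▸ dvd_rfl)
  have hQs : (Fintype.card K : ZMod s) = 1 := natCast_ext hK (hqs ▸ dvd_rfl)
  haveI : NeZero r := ⟨hpr.ne_zero⟩
  haveI : NeZero s := ⟨hps.ne_zero⟩
  obtain ⟨zr, hzr⟩ := exists_zmodHom (K := K) (m := r)
    (by rw [Nat.card_eq_fintype_card]; exact dvd_units Fintype.card_pos hQr) (NeZero.pos r)
  obtain ⟨zs, hzs⟩ := exists_zmodHom (K := K) (m := s)
    (by rw [Nat.card_eq_fintype_card]; exact dvd_units Fintype.card_pos hQs) (NeZero.pos s)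
  obtain ⟨B, hB⟩ := exists_unimodular
  set T := (chevF4.diagonalSubgroup K).subgroupOf (chevF4.group K) with hT
  obtain ⟨g, -, hg⟩ := exists_conj_le (T := T) (H := ⊤) (r := s)
    (P := (P : Subgroup ↥(chevF4.group F)).map (incl f)) le_top le_top (P.isPGroup'.map _)
    (factorization_le_diag K hs hQs)
  have hdiag : ∀ i, cmap f g (xs i) ∈ chevF4.diagonalSubgroup K := fun i =>
    hg _ (Subgroup.mem_map_of_mem _ (eP.symm (Pi.mulSingle i c)).2)
  choose lam hlam using fun i => exists_vec rootedF4 hB hzs (hdiag i) (by rw [← map_pow, hxs_pow i, map_one])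
  have hind : LinearIndependent (ZMod s) lam := by
    rw [Fintype.linearIndependent_iff]
    intro a ha i
    have e : cmap f g (xs 0 ^ (a 0).val * xs 1 ^ (a 1).val) = cmap f g 1 := by
      rw [map_one, map_mul, map_pow, map_pow, ← hlam, ← hlam, ← tor_smul, ← tor_smul, ← map_mul, ← ofAdd_add,
        ZMod.natCast_zmod_val, ZMod.natCast_zmod_val, ← map_smul, ← map_smul, ← map_add, ← Fin.sum_univ_two
        (f := fun i => a i • lam i), ha]
      simp
    have e1 : (eP.symm (Pi.mulSingle 0 c ^ (a 0).val * Pi.mulSingle 1 c ^ (a 1).val)) = 1 := by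
      rw [map_mul, map_pow, map_pow]
      exact Subtype.ext (cmap_injective f g e)
    rw [MulEquiv.map_eq_one_iff] at e1
    have e2 : ∀ i : Fin 2, c ^ (a i).val = 1 := by
      intro i
      have h1 := congrFun e1 i
      fin_cases i <;> simpa [Pi.mulSingle_apply] using h1
    exact (ZMod.val_eq_zero (a i)).1 (Nat.eq_zero_of_dvd_of_lt ((dvd_of_eq hc.symm).trans (orderOf_dvd_of_pow_eq_one (e2 i)))
      (ZMod.val_lt _))
  obtain ⟨L, u₁, t₁, u, hL, hu₁, ht₁, hu, hel, hfacts⟩ := twist_data rootedF4 (twistEl_mem σ g)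
  obtain ⟨j, hj, hform, hW⟩ := exists_index rootedF4 hL
  have facts : ∀ i, act (wperm rootedF4.toChecked L) (iota chevF4 (ZMod s) (lam i)) =
        (q : ZMod s) • iota chevF4 (ZMod s) (lam i) ∧
      Commute (tor zs (Multiplicative.ofAdd (iota chevF4 (ZMod s) (lam i)))) u ∧
      Commute (tor zs (Multiplicative.ofAdd ((q : ZMod s) • iota chevF4 (ZMod s) (lam i)))) u₁ := fun i =>
    hfacts s zs hzs _ _ ⟨lam i, rfl⟩ (twistEl_tor f σ hσf hσ g (xs i) (hlam i).symm)
  have heig : ∀ i, wmod s j *ᵥ lam i = (q : ZMod s) • lam i := fun i => by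
    have h2 := (facts i).1
    exact iotaF4_injective (ZMod s) (((hW (ZMod s) (lam i)).trans h2).trans (map_smul _ _ _).symm)
  obtain ⟨hquad, hq2⟩ := quad_of_order hk hqs
  obtain ⟨hz, hspan⟩ := eigen_two hs hj hform (coefOf_mem k) hquad hq2 hind heig
  have hq0 : (q : ZMod s) ≠ 0 := fun h => hrq ((ZMod.natCast_eq_zero_iff _ _).1 h)
  have hnv : ∀ i : Fin chevF4.nroots, ∃ m, iota chevF4 (ZMod s) (lam m) i ≠ 0 := by
    intro i
    obtain ⟨e, he, hne⟩ := exists_eigen_apply_ne hs hj (coefOf_mem k) hz hquad i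
    by_contra! hall
    refine hne ?_
    have h0 : iota chevF4 (ZMod s) e i = 0 := by
      have hle : Submodule.span (ZMod s) (Set.range lam) ≤
          LinearMap.ker ((LinearMap.proj i).comp (iota chevF4 (ZMod s))) :=
        Submodule.span_le.2 (by rintro _ ⟨m, rfl⟩; exact hall m)
      exact hle (hspan e he)
    exact (iota_apply (D := chevF4) e i).symm.trans h0
  have hu0 : u = 1 := eq_one_of_commute_family rootedF4 hzs
    (A := Set.range fun m => iota chevF4 (ZMod s) (lam m)) (by rintro _ ⟨m, rfl⟩; exact ⟨_, rfl⟩)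
    (fun i => (hnv i).elim fun m hm => ⟨_, ⟨m, rfl⟩, hm⟩) hu (by rintro _ ⟨m, rfl⟩; exact (facts m).2.1)
  have hu10 : u₁ = 1 := eq_one_of_commute_family rootedF4 hzs
    (A := Set.range fun m => (q : ZMod s) • iota chevF4 (ZMod s) (lam m))
    (by rintro _ ⟨m, rfl⟩; exact Submodule.smul_mem _ _ ⟨_, rfl⟩)
    (fun i => (hnv i).elim fun m hm => ⟨_, ⟨m, rfl⟩, mul_ne_zero hq0 hm⟩) hu₁
    (by rintro _ ⟨m, rfl⟩; exact (facts m).2.2)
  obtain ⟨hquadr, -⟩ := quad_of_order hk hqr
  obtain ⟨e, he, hne⟩ := exists_eigen_apply_ne hr hj (coefOf_mem k) hz hquadr (0 : Fin 48)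
  set a := iota chevF4 (ZMod r) e with hadef
  have ha : act (wperm rootedF4.toChecked L) a = (q : ZMod r) • a := by
    exact ((hW (ZMod r) e).symm.trans (congrArg _ he)).trans (map_smul _ _ _)
  set y := tor zr (Multiplicative.ofAdd a) with hy
  have hyT : y ∈ chevF4.diagonalSubgroup K := tor_mem rootedF4.toChecked rootedF4 ⟨e, rfl⟩
  have hconj : glMap chevF4 σ y = twistEl σ g * y * (twistEl σ g)⁻¹ := by
    rw [hy, glMap_tor zr σ q hσ, eq_mul_inv_iff_mul_eq, hel, hu0, hu10, mul_one, one_mul, mul_assoc t₁,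
      nProd_conj_tor rootedF4.toChecked hL, ha, ← mul_assoc, ← mul_assoc,
      rootedF4.diagonal_commute ht₁ (tor_mem rootedF4.toChecked rootedF4 (Submodule.smul_mem _ _ ⟨e, rfl⟩))]
  obtain ⟨x, hx⟩ := exists_cmap_eq f σ hσf hfix g (rootedF4.diagonal_le_group hyT) hconj
  have hox : orderOf x = r := by
    refine orderOf_eq_prime ?_ fun h1 => hne ?_
    · exact cmap_injective f g (by rw [map_pow, hx, hy, pow_p_tor, map_one])
    · rw [h1, map_one, eq_comm, hy, ← map_one (tor (D := chevF4) zr)] at hx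
      have h2 := congrFun (Multiplicative.ofAdd.injective ((tor_injective hzr hx).trans ofAdd_zero.symm))
        (0 : Fin 48)
      exact (iota_apply (D := chevF4) e (0 : Fin 48)).symm.trans h2
  refine ⟨x, xs 0, hox, orderOf_eq_prime (hxs_pow 0) fun h1 => ?_, ?_⟩
  · have h2 : eP.symm (Pi.mulSingle 0 c) = 1 := Subtype.ext h1
    rw [MulEquiv.map_eq_one_iff, Pi.mulSingle_eq_one_iff] at h2
    rw [h2, orderOf_one] at hc
    exact hps.one_lt.ne hc
  · refine cmap_injective f g ?_
    rw [map_mul, map_mul, hx]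
    exact rootedF4.diagonal_commute hyT (hdiag 0)

end Cfsg.Agent.Lib.H59.F4Graph
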