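import Cfsg.Agent.Lib.H59.F4Graph.WeylData
import Cfsg.Agent.Lib.H59.Homocyclic.WeylMatrix
import Cfsg.Agent.Lib.Chev.PoincareF4

/-! Facts on the Weyl group of type F4 checked element by element. -/

set_option autoImplicit false

namespace Cfsg.Agent.Lib.H59.F4Graph

open Cfsg.Lie Cfsg.Agent.Lib.Chev Cfsg.Agent.Lib.H59.Homocyclic
open scoped Matrix

/-- An entry. -/
def ent (X : ℕ) (a b : ℕ) : ℤ := (((X / 9 ^ (4 * a + b)) % 9 : ℕ) : ℤ) - 4

/-- An entry of a table. -/
def tent (X : List (List ℤ)) (a b : ℕ) : ℤ := (X.getD a []).getD b 0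

/-- The element with a given index. -/
def wget (k : ℕ) : ℕ := (wls.getD (k / 36) []).getD (k % 36) 0

/-- The index of a product with a fundamental reflection. -/
def wtgt (k i : ℕ) : ℕ := (wts.getD (k / 36) []).getD (k % 36) 0 / 2048 ^ i % 2048

/-- Passing a number on after evaluating it. -/
def force {α : Type} (n : ℕ) (f : ℕ → α) : α :=
  match n with
  | 0 => f 0
  | m + 1 => f (m + 1)

theorem force_eq {α : Type} (n : ℕ) (f : ℕ → α) : force n f = f n := by cases n <;> rfl

/-- The Cartan integers. -/
def cmt : List (List ℤ) := [[2, -1, 0, 0], [-1, 2, -2, 0], [0, -1, 2, -1], [0, 0, -1, 2]]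

/-- The invariant form. -/
def formB : List (List ℤ) := [[4, -2, 0, 0], [-2, 4, -2, 0], [0, -2, 2, -1], [0, 0, -1, 2]]

/-- Being a signed product of twos and threes (up to the size that occurs). -/
def u23 (d : ℤ) : Bool := decide (62208 % d.natAbs = 0)

/-- The quadratic `X² - c X + 1`. -/
def phiEnt (c : ℤ) (X : ℕ) (a b : ℕ) : ℤ :=
  ent X a 0 * ent X 0 b + ent X a 1 * ent X 1 b + ent X a 2 * ent X 2 b + ent X a 3 * ent X 3 b - c * ent X a b +
    bif a == b then 1 else 0

/-- A minor of order three. -/
def det3 (f : ℕ → ℕ → ℤ) (a b c i j k : ℕ) : ℤ :=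
  f a i * (f b j * f c k - f b k * f c j) - f a j * (f b i * f c k - f b k * f c i) +
    f a k * (f b i * f c j - f b j * f c i)

/-- The determinant of order four. -/
def det4 (f : ℕ → ℕ → ℤ) : ℤ :=
  f 0 0 * det3 f 1 2 3 1 2 3 - f 0 1 * det3 f 1 2 3 0 2 3 + f 0 2 * det3 f 1 2 3 0 1 3 - f 0 3 * det3 f 1 2 3 0 1 2

theorem four_det (M : Matrix (Fin 4) (Fin 4) ℤ) (f : ℕ → ℕ → ℤ) (hf : ∀ i j : Fin 4, M i j = f i j) :
    M.det = det4 f := by
  simp [Matrix.det_succ_row_zero, Fin.sum_univ_succ, hf, det4, det3, Fin.succAbove]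
  ring

/-- Closure under the fundamental reflections. -/
def chkStep (k X : ℕ) : Bool :=
  (List.range 4).all fun i => decide (wtgt k i < 1152) && force (wget (wtgt k i)) fun Y => (List.range 4).all fun a =>
    (List.range 4).all fun b => decide (ent Y a b = ent X a b - bif a == i then
      tent cmt 0 i * ent X 0 b + tent cmt 1 i * ent X 1 b + tent cmt 2 i * ent X 2 b +
        tent cmt 3 i * ent X 3 b else 0)

/-- No two of the three quadratics degenerate together. -/
def chkPairs (X : ℕ) : Bool :=
  let d := fun c => u23 (det4 (phiEnt c X))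
  (d (-1) || d 1) && (d 0 || d 1) && (d (-1) || d 0)

/-- Vanishing of a quadratic. -/
def phiZero (c : ℤ) (X : ℕ) : Bool :=
  (List.range 4).all fun a => (List.range 4).all fun b => decide (phiEnt c X a b = 0)

/-- A quadratic vanishes, or has an entry that is a unit away from two and three. -/
def chkZero (c : ℤ) (X : ℕ) : Bool :=
  phiZero c X || (List.range 4).any fun a => (List.range 4).any fun b => u23 (phiEnt c X a b)

/-- A root and its image are independent away from two and three. -/
def chkMinor (X r : ℕ) : Bool :=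
  (List.range 4).any fun i => (List.range 4).any fun j => u23 (chevF4.cartan i r *
    (chevF4.cartan 0 r * ent X 0 j + chevF4.cartan 1 r * ent X 1 j +
      chevF4.cartan 2 r * ent X 2 j + chevF4.cartan 3 r * ent X 3 j) - chevF4.cartan j r *
    (chevF4.cartan 0 r * ent X 0 i + chevF4.cartan 1 r * ent X 1 i +
      chevF4.cartan 2 r * ent X 2 i + chevF4.cartan 3 r * ent X 3 i))

/-- All checks for one element. -/
def chkOne (k : ℕ) : Bool :=
  force (wget k) fun X => chkStep k X && chkPairs X && chkZero (-1) X && chkZero 0 X && chkZero 1 X &&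
    ((!(phiZero (-1) X || phiZero 0 X || phiZero 1 X)) || (List.range 48).all (chkMinor X))

theorem chkOne_ok : (List.range 1152).all chkOne = true := by decide +kernel

theorem cmt_ok : (List.range 4).all (fun b => (List.range 4).all fun i =>
    decide (cm F4.cert b i = tent cmt b i)) = true := by decide +kernel

/-- A matrix of the list. -/
def wmat (k : ℕ) : Matrix (Fin 4) (Fin 4) ℤ := Matrix.of fun a b => ent (wget k) a.val b.val

/-- The invariant form as a matrix. -/
def formMat : Matrix (Fin 4) (Fin 4) ℤ := Matrix.of fun a b => tent formB a.val b.val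

/-- A fundamental reflection as a matrix. -/
def rmat (i : ℕ) : Matrix (Fin 4) (Fin 4) ℤ :=
  Matrix.of fun a b => (if a = b then 1 else 0) - if a.val = i then tent cmt b.val i else 0

theorem rmat_form : ∀ i < 4, (rmat i)ᵀ * formMat * rmat i = formMat := by decide +kernel

theorem wmat_zero : wmat 0 = 1 := by decide +kernel

theorem formMat_det : formMat.det = 4 := by
  rw [four_det formMat (tent formB) (fun i j => rfl)]
  decide +kernel

theorem rmat_eq (i : ℕ) (hi : i < 4) : rmat i = reflMat chevF4 F4.cert i := by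
  have h := cmt_ok
  simp only [List.all_eq_true, List.mem_range, decide_eq_true_eq] at h
  ext a b
  show _ = (if a = b then (1 : ℤ) else 0) - if a.val = i then cm F4.cert b.val i else 0
  rw [h b.val b.2 i hi]
  rfl

theorem checks {k : ℕ} (hk : k < 1152) :
    (∀ i < 4, wtgt k i < 1152 ∧ wmat (wtgt k i) = rmat i * wmat k) ∧ chkPairs (wget k) = true ∧
    (∀ c : ℤ, c = -1 ∨ c = 0 ∨ c = 1 → chkZero c (wget k) = true ∧
      (phiZero c (wget k) = true → ∀ r < 48, chkMinor (wget k) r = true)) := by
  have h := chkOne_ok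
  simp only [List.all_eq_true, List.mem_range] at h
  have h1 := h k hk
  simp only [chkOne, force_eq, Bool.and_eq_true, Bool.or_eq_true, Bool.not_eq_true'] at h1
  obtain ⟨⟨⟨⟨⟨hs, hp⟩, hz1⟩, hz2⟩, hz3⟩, hm⟩ := h1
  refine ⟨fun i hi => ?_, hp, fun c hc => ?_⟩
  · simp only [chkStep, force_eq, List.all_eq_true, List.mem_range, Bool.and_eq_true, decide_eq_true_eq] at hs
    refine ⟨(hs i hi).1, ?_⟩
    ext a b
    show ent (wget (wtgt k i)) a.val b.val = _
    rw [(hs i hi).2 a.val a.2 b.val b.2, Matrix.mul_apply]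
    simp only [rmat, wmat, Matrix.of_apply, sub_mul, Finset.sum_sub_distrib, ite_mul, one_mul, zero_mul,
      Finset.sum_ite_eq, Finset.mem_univ, if_true]
    congr 1
    by_cases e : a.val = i
    · simp [e, Fin.sum_univ_four]
    · simp [e, beq_eq_false_iff_ne.2 e]
  · refine ⟨?_, fun hz => ?_⟩
    · rcases hc with rfl | rfl | rfl <;> assumption
    · have : (phiZero (-1) (wget k) || phiZero 0 (wget k) || phiZero 1 (wget k)) = true := by
        rcases hc with rfl | rfl | rfl <;> simp [hz]
      rcases hm with hm | hm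
      · rw [this] at hm; exact absurd hm (by simp)
      · simpa [List.all_eq_true] using hm

/-- Every element of the Weyl group has one of the listed matrices on coweights. -/
theorem exists_index (hh : Rooted chevF4 F4.cert) {L : List ℕ} (hL : IsWord chevF4 L) :
    ∃ k < 1152, (wmat k)ᵀ * formMat * wmat k = formMat ∧ ∀ (R : Type) [CommRing R] (lam : Fin 4 → R),
      iota chevF4 R ((wmat k).map (Int.castRingHom R) *ᵥ lam) = act (wperm hh.toChecked L) (iota chevF4 R lam) := by
  induction L with
  | nil =>
    refine ⟨0, by norm_num, by simp [wmat_zero], fun R _ lam => ?_⟩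
    have e : (wmat 0).map (Int.castRingHom R) *ᵥ lam = lam := by
      rw [wmat_zero, Matrix.map_one _ (map_zero _) (map_one _), Matrix.one_mulVec]
    rw [wperm_nil, act_one]
    exact congrArg _ e
  | cons i L ih =>
    have hi : i < 4 := hL.cons.1
    obtain ⟨k, hk, hform, hW⟩ := ih hL.cons.2
    obtain ⟨hlt, e⟩ := (checks hk).1 i hi
    refine ⟨wtgt k i, hlt, ?_, fun R _ lam => ?_⟩
    · rw [e, Matrix.transpose_mul]
      calc (wmat k)ᵀ * (rmat i)ᵀ * formMat * (rmat i * wmat k)
          = (wmat k)ᵀ * ((rmat i)ᵀ * formMat * rmat i) * wmat k := by simp only [Matrix.mul_assoc]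
        _ = formMat := by rw [rmat_form i hi]; exact hform
    · have e1 : (wmat (wtgt k i)).map (Int.castRingHom R) *ᵥ lam =
          (rmat i).map (Int.castRingHom R) *ᵥ ((wmat k).map (Int.castRingHom R) *ᵥ lam) := by
        rw [e, Matrix.map_mul, ← Matrix.mulVec_mulVec]
      rw [wperm_cons, act_mul, rmat_eq i hi] at *
      exact (congrArg _ e1).trans ((iota_reflMat hh.toChecked hL.cons.1 _).trans (congrArg _ (hW R lam)))

end Cfsg.Agent.Lib.H59.F4Graph
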