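import Cfsg.Agent.Lib.H59.F4Graph.Toral
import Cfsg.Agent.Lib.H59.F4Graph.WeylList

/-! The group of type F4 over a finite field, inside the group over an extension. -/

set_option autoImplicit false

namespace Cfsg.Agent.Lib.H59.F4Graph

open Cfsg.Lie Cfsg.Agent.Lib.Chev Cfsg.Agent.Lib.ChevField Cfsg.Agent.Lib.H59.Homocyclic
open scoped Matrix

universe u

theorem rootedF4 : Rooted chevF4 F4.cert := ⟨checked_F4, descent_F4⟩

theorem sd_one : ∀ i < chevF4.rank, ([1, 1, 1, 1] : List ℕ).getD i 0 = 1 := by decide +kernel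

theorem exists_unimodular :
    ∃ B : Matrix (Fin chevF4.rank) (Fin chevF4.rank) ℤ, cmMat chevF4 F4.cert * B = 1 :=
  (exists_cmMat_inverse F4.smith_ok sd_one).imp fun _ h => h.1

theorem iotaF4_injective (R : Type*) [CommRing R] : Function.Injective (iota chevF4 R) :=
  exists_unimodular.elim fun _ h => iota_injective_of_inverse rootedF4.toChecked h R

theorem card_groupF4 (F : Type*) [Field F] [Fintype F] :
    Nat.card ↥(chevF4.group F) = Fintype.card F ^ 24 * ((Fintype.card F ^ 2 - 1) * ((Fintype.card F ^ 6 - 1) *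
      ((Fintype.card F ^ 8 - 1) * (Fintype.card F ^ 12 - 1)))) := by
  have h := rootedF4.card_group_mul (F := F) F4.smith_ok F4.chain_ok F4.poly_ok
  rw [Finset.prod_eq_one (fun i _ => by rw [sd_one i.val i.2, Nat.gcd_one_right]), one_mul] at h
  simpa [F4.degs, show chevF4.nroots / 2 = 24 from rfl] using h

theorem card_diagonalF4 (F : Type*) [Field F] [Fintype F] :
    Nat.card ↥(chevF4.diagonalSubgroup F) = (Fintype.card F - 1) ^ 4 := by
  have h := rootedF4.card_diagonal (F := F) F4.smith_ok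
  rw [Finset.prod_eq_one (fun i _ => by rw [sd_one i.val i.2, Nat.gcd_one_right]), one_mul] at h
  exact h

theorem not_dvd_degs {r : ℕ} [Fact r.Prime] (hr : 5 ≤ r) : ¬ r ∣ F4.degs.prod := by
  have hp : r.Prime := Fact.out
  intro h
  have h1 : r ∣ 2 ^ 7 * 3 ^ 2 := h.trans (by decide +kernel)
  rcases (Nat.Prime.dvd_mul hp).1 h1 with h2 | h2
  · have := Nat.le_of_dvd (by norm_num) (hp.dvd_of_dvd_pow h2); omega
  · have := Nat.le_of_dvd (by norm_num) (hp.dvd_of_dvd_pow h2); omega

theorem factorization_le_diag (K : Type*) [Field K] [Fintype K] {r : ℕ} [Fact r.Prime] (hr : 5 ≤ r)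
    (hK : (Fintype.card K : ZMod r) = 1) :
    (Nat.card ↥(chevF4.group K)).factorization r ≤
      (Nat.card ↥((chevF4.diagonalSubgroup K).subgroupOf (chevF4.group K))).factorization r := by
  have hp : r.Prime := Fact.out
  have hrQ : ¬ r ∣ Fintype.card K := fun h => one_ne_zero (hK.symm.trans ((ZMod.natCast_eq_zero_iff _ _).2 h))
  have hds : ∀ e ∈ F4.degs, ¬ r ∣ e := fun e he h => not_dvd_degs hr (h.trans (List.dvd_prod he))
  obtain ⟨h, -⟩ := factorization_group rootedF4 (K := K) F4.smith_ok F4.chain_ok F4.poly_ok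
    (fun i hi hd => hp.not_dvd_one (sd_one i hi ▸ hd)) hds hrQ
  rw [hK, orderOf_one, pow_one, List.filter_eq_self.2 (fun e _ => by simp)] at h
  rw [h, Nat.card_congr (Subgroup.subgroupOfEquivOfLe rootedF4.diagonal_le_group).toEquiv, card_diagonalF4,
    Nat.factorization_pow]
  simp [F4.degs, mul_comm]

theorem exists_ext (F : Type u) [Field F] [Fintype F] {d : ℕ} (hd : 0 < d) :
    ∃ (K : Type) (_ : Field K) (_ : Fintype K) (f : F →+* K) (σ : K →+* K),
      Fintype.card K = Fintype.card F ^ d ∧ (∀ x, σ x = x ^ Fintype.card F) ∧ (∀ a, σ (f a) = f a) ∧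
        ∀ x, σ x = x → ∃ y, f y = x := by
  classical
  obtain ⟨p, hpc⟩ := CharP.exists F
  haveI := hpc
  haveI : Fact p.Prime := ⟨CharP.char_is_prime F p⟩
  haveI : NeZero d := ⟨hd.ne'⟩
  let K := FiniteField.Extension F p d
  letI : Fintype K := Fintype.ofFinite K
  refine ⟨K, inferInstance, inferInstance, algebraMap F K,
    (FiniteField.frobeniusAlgHom F K : K →ₐ[F] K).toRingHom, ?_, fun x => rfl,
    fun a => (FiniteField.frobeniusAlgHom F K).commutes a, fun x hx => exists_eq_of_pow_eq _ x hx⟩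
  rw [Fintype.card_eq_nat_card, FiniteField.natCard_extension, Fintype.card_eq_nat_card]

variable {F : Type u} {K : Type} [Field F] [Field K]

/-- The group over the subfield inside the group over the extension. -/
noncomputable def incl (f : F →+* K) : ↥(chevF4.group F) →* ↥(chevF4.group K) where
  toFun x := ⟨glMap chevF4 f x, glMap_group_le f (Subgroup.mem_map_of_mem _ x.2)⟩
  map_one' := Subtype.ext (map_one (glMap chevF4 f))
  map_mul' a b := Subtype.ext (map_mul (glMap chevF4 f) a.1 b.1)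

/-- The inclusion followed by a conjugation. -/
noncomputable def cmap (f : F →+* K) (g : ↥(chevF4.group K)) : ↥(chevF4.group F) →* GL chevF4.Idx K :=
  (chevF4.group K).subtype.comp ((MulAut.conj g).toMonoidHom.comp (incl f))

theorem cmap_apply (f : F →+* K) (g : ↥(chevF4.group K)) (x : ↥(chevF4.group F)) :
    cmap f g x = (g : GL chevF4.Idx K) * glMap chevF4 f x * (g : GL chevF4.Idx K)⁻¹ := rfl

theorem cmap_injective (f : F →+* K) (g : ↥(chevF4.group K)) : Function.Injective (cmap f g) := fun x y e => by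
  rw [cmap_apply, cmap_apply] at e
  exact Subtype.ext (glMap_injective f (mul_left_cancel (mul_right_cancel e)))

/-- The twisting element. -/
noncomputable def twistEl (σ : K →+* K) (g : ↥(chevF4.group K)) : GL chevF4.Idx K :=
  glMap chevF4 σ (g : GL chevF4.Idx K) * (g : GL chevF4.Idx K)⁻¹

theorem twistEl_mem (σ : K →+* K) (g : ↥(chevF4.group K)) : twistEl σ g ∈ chevF4.group K :=
  mul_mem (glMap_group_le σ (Subgroup.mem_map_of_mem _ g.2)) (inv_mem g.2)

theorem twistEl_conj (f : F →+* K) (σ : K →+* K) (hσf : ∀ a, σ (f a) = f a) (g : ↥(chevF4.group K))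
    (x : ↥(chevF4.group F)) : glMap chevF4 σ (cmap f g x) = twistEl σ g * cmap f g x * (twistEl σ g)⁻¹ := by
  have : σ.comp f = f := RingHom.ext hσf
  rw [cmap_apply, map_mul, map_mul, map_inv, glMap_glMap, this, twistEl]
  group

theorem twistEl_tor (f : F →+* K) (σ : K →+* K) (hσf : ∀ a, σ (f a) = f a) {q : ℕ} (hσ : ∀ x, σ x = x ^ q)
    (g : ↥(chevF4.group K)) (x : ↥(chevF4.group F)) {m : ℕ} {z : Multiplicative (ZMod m) →* Kˣ}
    {a : Fin chevF4.nroots → ZMod m} (e : cmap f g x = tor z (Multiplicative.ofAdd a)) :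
    twistEl σ g * tor z (Multiplicative.ofAdd a) =
      tor z (Multiplicative.ofAdd ((q : ZMod m) • a)) * twistEl σ g := by
  rw [← mul_inv_eq_iff_eq_mul, ← e, ← twistEl_conj f σ hσf, e, glMap_tor z σ q hσ]

/-- The torus elements fixed by the twisted field map come from the group over the subfield. -/
theorem exists_cmap_eq [Fintype K] (f : F →+* K) (σ : K →+* K) (hσf : ∀ a, σ (f a) = f a)
    (hfix : ∀ x, σ x = x → ∃ y, f y = x) (g : ↥(chevF4.group K)) {y : GL chevF4.Idx K}
    (hy : y ∈ chevF4.group K) (e : glMap chevF4 σ y = twistEl σ g * y * (twistEl σ g)⁻¹) :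
    ∃ x, cmap f g x = y := by
  have hfx : glMap chevF4 σ ((g : GL chevF4.Idx K)⁻¹ * y * g) = (g : GL chevF4.Idx K)⁻¹ * y * g := by
    rw [map_mul, map_mul, map_inv, e, twistEl]
    group
  obtain ⟨x, hx, ex⟩ := mem_map_of_fixed rootedF4 F4.smith_ok sd_one f σ hσf hfix
    (mul_mem (mul_mem (inv_mem g.2) hy) g.2) hfx
  exact ⟨⟨x, hx⟩, by rw [cmap_apply, ex]; group⟩

end Cfsg.Agent.Lib.H59.F4Graph
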