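import Cfsg.Agent.Lib.H59.Homocyclic.SelfCent

/-!
Abelian subgroups of the fixed-point group conjugated into a split torus over an extension, and the twisting element.
-/

set_option autoImplicit false

namespace Cfsg.Agent.Lib.H59.F4Graph

open Cfsg.Lie Cfsg.Agent.Lib.Chev Cfsg.Agent.Lib.ChevField Cfsg.Agent.Lib.H59.Homocyclic
open scoped Matrix

universe u v

variable {D : ChevalleyDatum} {C : Cert}

/-- A subgroup of `r`-elements of `H` goes into `T ≤ H` when `T` has the full `r`-part of the order. -/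
theorem exists_conj_le {G : Type*} [Group G] [Finite G] {r : ℕ} [Fact r.Prime] {T H P : Subgroup G} (hTH : T ≤ H)
    (hPH : P ≤ H) (hP : IsPGroup r ↥P) (hf : (Nat.card G).factorization r ≤ (Nat.card ↥T).factorization r) :
    ∃ g ∈ H, ∀ x ∈ P, g * x * g⁻¹ ∈ T := by
  let S0 : Sylow r ↥T := Classical.ofNonempty
  let A : Subgroup ↥H := (S0 : Subgroup ↥T).map (Subgroup.inclusion hTH)
  have hA : Nat.card ↥A = r ^ (Nat.card ↥H).factorization r := by
    rw [Subgroup.card_map_of_injective (Subgroup.inclusion_injective hTH), S0.card_eq_multiplicity]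
    congr 1
    refine le_antisymm ((Nat.factorization_le_iff_dvd Nat.card_pos.ne' Nat.card_pos.ne').2
      (Subgroup.card_dvd_of_le hTH) r) (le_trans ?_ hf)
    exact (Nat.factorization_le_iff_dvd Nat.card_pos.ne' Nat.card_pos.ne').2 (Subgroup.card_subgroup_dvd_card H) r
  have hP' : IsPGroup r ↥(P.subgroupOf H) := hP.of_equiv (Subgroup.subgroupOfEquivOfLe hPH).symm
  obtain ⟨Q, hQ⟩ := hP'.exists_le_sylow
  obtain ⟨g, hg⟩ := MulAction.exists_smul_eq ↥H Q (Sylow.ofCard A hA)
  refine ⟨g, g.2, fun x hx => ?_⟩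
  have h1 : g * ⟨x, hPH hx⟩ * g⁻¹ ∈ A := by
    show _ ∈ ((Sylow.ofCard A hA : Sylow r ↥H) : Subgroup ↥H)
    rw [← hg]
    exact Subgroup.smul_mem_pointwise_smul (⟨x, hPH hx⟩ : ↥H) (MulAut.conj g) _
      (hQ (show (⟨x, hPH hx⟩ : ↥H) ∈ P.subgroupOf H from hx))
  obtain ⟨y, -, hy⟩ := h1
  have hy' : (y : G) = (g : G) * x * (g : G)⁻¹ := congrArg Subtype.val hy
  exact hy' ▸ y.2

variable (hh : Rooted D C)
include hh

/-- The torus elements killed by `m` are the torsion elements of the coweights. -/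
theorem exists_vec {B : Matrix (Fin D.rank) (Fin D.rank) ℤ} (hB : cmMat D C * B = 1) {K : Type u} [Field K] [Finite K]
    {m : ℕ} [NeZero m] {z : Multiplicative (ZMod m) →* Kˣ} (hz : Function.Injective z) {t : GL D.Idx K}
    (ht : t ∈ D.diagonalSubgroup K) (hm : t ^ m = 1) :
    ∃ lam : Fin D.rank → ZMod m, tor z (Multiplicative.ofAdd (iota D (ZMod m) lam)) = t := by
  classical
  rw [hh.diagonalSubgroup_eq] at ht
  obtain ⟨c, rfl⟩ := ht
  rw [← map_pow, hh.toChecked.torusHom_eq_one_iff] at hm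
  have hinj : Function.Injective (zpowMap Kˣ (cmMat D C)) := by
    intro x y e
    have e2 := congrArg (zpowMap Kˣ B) e
    rwa [← zpowMap_mul, ← zpowMap_mul, hB, zpowMap_one, zpowMap_one] at e2
  have hc : (fun i : Fin D.rank => (c ^ m) i.val) = 1 := hinj (hm.trans (map_one _).symm)
  haveI : Fintype Kˣ := Fintype.ofFinite _
  have hrange : ∀ i : Fin D.rank, c i.val ∈ z.range := by
    intro i
    have hle : z.range ≤ rootsOfUnity m K := by
      rintro _ ⟨a, rfl⟩
      rw [mem_rootsOfUnity, ← map_pow]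
      refine (congrArg z ?_).trans (map_one z)
      apply Multiplicative.toAdd.injective
      rw [toAdd_pow, toAdd_one, nsmul_eq_mul, ZMod.natCast_self, zero_mul]
    have hcard : Nat.card ↥(rootsOfUnity m K) ≤ Nat.card ↥z.range := by
      rw [← Nat.card_congr (MonoidHom.ofInjective hz).toEquiv, Nat.card_congr Multiplicative.toAdd, Nat.card_zmod]
      exact card_rootsOfUnity K m
    rw [Subgroup.eq_of_le_of_card_ge hle hcard, mem_rootsOfUnity]
    exact congrFun hc i
  choose b hb using hrange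
  refine ⟨fun i => (b i).toAdd, ?_⟩
  rw [tor_iota]
  exact torusHom_congr fun i hi => by rw [zcoord, dif_pos hi, ofAdd_toAdd, hb]

/-- The canonical pieces of an element moving torsion elements of the torus to multiples. -/
theorem twist_data {K : Type u} [Field K] {hel : GL D.Idx K} (hhelG : hel ∈ D.group K) :
    ∃ (L : List ℕ) (u₁ t₁ u : GL D.Idx K), IsWord D L ∧ u₁ ∈ D.posUnipotent K ∧ t₁ ∈ D.diagonalSubgroup K ∧
      u ∈ D.posUnipotent K ∧ hel = u₁ * t₁ * nProd hh.toChecked K L * u ∧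
      ∀ (m : ℕ) (z : Multiplicative (ZMod m) →* Kˣ), Function.Injective z →
        ∀ (a : Fin D.nroots → ZMod m) (c : ZMod m), a ∈ CW D (ZMod m) →
          hel * tor z (Multiplicative.ofAdd a) = tor z (Multiplicative.ofAdd (c • a)) * hel →
          act (wperm hh.toChecked L) a = c • a ∧ Commute (tor z (Multiplicative.ofAdd a)) u ∧
            Commute (tor z (Multiplicative.ofAdd (c • a))) u₁ := by
  obtain ⟨L, hL, bo, hbo, u, hu, hel_eq⟩ := hh.exists_canonical hhelG
  obtain ⟨u₁, hu₁, t₁, ht₁, rfl⟩ := hh.mem_borel_iff.1 hbo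
  have huU : u ∈ D.posUnipotent K := by
    rw [hh.toChecked.posUnipotent_eq]; exact rootGen_mono (hh.toChecked.invSet_subset L) hu
  refine ⟨L, u₁, t₁, u, hL, hu₁, ht₁, huU, hel_eq, fun m z hz a c ha e => ?_⟩
  have hwW := hh.toChecked.mem_weyl_of_word hL
  set t := tor z (Multiplicative.ofAdd a)
  set t' := tor z (Multiplicative.ofAdd (c • a))
  set tw := tor z (Multiplicative.ofAdd (act (wperm hh.toChecked L) a))
  set n := nProd hh.toChecked K L
  have ht : t ∈ D.diagonalSubgroup K := tor_mem hh.toChecked hh ha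
  have ht' : t' ∈ D.diagonalSubgroup K := tor_mem hh.toChecked hh (Submodule.smul_mem _ _ ha)
  have htw : tw ∈ D.diagonalSubgroup K := tor_mem hh.toChecked hh (act_mem hh.toChecked hwW ha)
  have hnt : n * t = tw * n := nProd_conj_tor hh.toChecked hL a
  have hu' : t⁻¹ * u * t ∈ rootGen D K (invSet D C L) := by
    have := (Subgroup.mem_normalizer_iff.1 (inv_mem (hh.diagonal_le_normalizer
      (S := invSet D C L) hh.toChecked.invSet_lt ht)) u).1 hu
    simpa using this
  rw [hel_eq] at e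
  have e' : u₁ * t₁ * tw * n * (t⁻¹ * u * t) = t' * (u₁ * t₁) * n * u := by
    calc u₁ * t₁ * tw * n * (t⁻¹ * u * t) = u₁ * t₁ * (tw * n) * t⁻¹ * u * t := by group
      _ = u₁ * t₁ * (n * t) * t⁻¹ * u * t := by rw [hnt]
      _ = u₁ * t₁ * n * u * t := by group
      _ = t' * (u₁ * t₁ * n * u) := e
      _ = _ := by group
  obtain ⟨eb, eu⟩ := hh.canonical_unique hL
    (mul_mem hbo (Subgroup.mem_sup_right htw)) (mul_mem (Subgroup.mem_sup_right ht') hbo) hu' hu e'
  have hu1' : t' * u₁ * t'⁻¹ ∈ D.posUnipotent K :=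
    (Subgroup.mem_normalizer_iff.1 (hh.diagonal_le_normalizer_posUnipotent ht') u₁).1 hu₁
  have e1 : (t' * u₁ * t'⁻¹)⁻¹ * u₁ = t' * t₁ * (t₁ * tw)⁻¹ := by
    calc (t' * u₁ * t'⁻¹)⁻¹ * u₁ = t' * u₁⁻¹ * t'⁻¹ * (u₁ * t₁ * tw) * (t₁ * tw)⁻¹ := by group
      _ = _ := by rw [eb]; group
  have e2 : (t' * u₁ * t'⁻¹)⁻¹ * u₁ = 1 := by
    refine Subgroup.mem_bot.1 (hh.posUnipotent_inf_diagonal.le
      (Subgroup.mem_inf.2 ⟨mul_mem (inv_mem hu1') hu₁, ?_⟩))
    rw [e1]
    exact mul_mem (mul_mem ht' ht₁) (inv_mem (mul_mem ht₁ htw))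
  have e3 : t' = tw := by
    rw [e2, eq_comm, mul_inv_eq_one, hh.diagonal_commute ht₁ htw] at e1
    exact mul_right_cancel e1
  refine ⟨(Multiplicative.ofAdd.injective (tor_injective hz e3)).symm, ?_, ?_⟩
  · refine (commute_iff_eq _ _).2 ?_
    calc t * u = t * (t⁻¹ * u * t) := by rw [eu]
      _ = u * t := by group
  · exact (commute_iff_eq _ _).2 (mul_inv_eq_iff_eq_mul.1 (inv_mul_eq_one.1 e2))

/-- A unipotent element commuting with torsion elements that separate every root from zero is trivial. -/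
theorem eq_one_of_commute_family {K : Type u} [Field K] {m : ℕ} {z : Multiplicative (ZMod m) →* Kˣ}
    (hz : Function.Injective z) {A : Set (Fin D.nroots → ZMod m)} (hA : ∀ a ∈ A, a ∈ CW D (ZMod m))
    (hnv : ∀ s, ∃ a ∈ A, a s ≠ 0) {v : GL D.Idx K} (hv : v ∈ D.posUnipotent K)
    (hc : ∀ a ∈ A, Commute (tor z (Multiplicative.ofAdd a)) v) : v = 1 := by
  have h := hh.toChecked
  obtain ⟨co, rfl⟩ := ChevCent.exists_word_of_mem_pos hh hv
  have hpos : ∀ r ∈ D.posRoots, r ∈ posSet D := fun r hr => h.mem_posRoots.1 hr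
  refine List.prod_eq_one fun x hx => ?_
  obtain ⟨r, hr, rfl⟩ := List.mem_map.1 hx
  suffices h0 : co r = 0 by rw [h0, ChevCent.xg_zero]
  by_contra h0
  obtain ⟨a, ha, hne⟩ := hnv ⟨r, (hpos r hr).2⟩
  have e : ChevCent.word h D.posRoots (fun r => (zval z a r : K) * co r) = ChevCent.word h D.posRoots co := by
    rw [← tor_conj_word h (hA a ha) _ (fun r hr => (hpos r hr).2) co, (hc a ha).eq, mul_inv_cancel_right]
  have e2 := ChevCent.word_injective hh h.posRoots_pairwise hpos e r hr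
  have e3 : (zval z a r : K) = 1 := (mul_eq_right₀ h0).1 e2
  rw [zval, dif_pos (hpos r hr).2] at e3
  exact hne (hz ((Units.ext e3 : z (Multiplicative.ofAdd (a ⟨r, (hpos r hr).2⟩)) = 1).trans (map_one z).symm))

/-- With the Cartan matrix unimodular every fixed element is rational. -/
theorem mem_map_of_fixed {sd : List ℕ} (hs : SmithOK D C sd) (hsd : ∀ i < D.rank, sd.getD i 0 = 1)
    {F : Type v} {K : Type u} [Field F] [Field K] [Fintype K] (f : F →+* K) (σ : K →+* K)
    (hσf : ∀ a, σ (f a) = f a) (hfix : ∀ x, σ x = x → ∃ y, f y = x) {g : GL D.Idx K} (hg : g ∈ D.group K)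
    (he : glMap D σ g = g) : g ∈ (D.group F).map (glMap D f) := by
  have h1 := pow_mem_map_of_fixed hh f σ hσf hfix hg he
  rwa [card_ker_of_smith hs, Finset.prod_eq_one (fun i _ => by rw [hsd i.val i.2, Nat.gcd_one_right]), pow_one] at h1

end Cfsg.Agent.Lib.H59.F4Graph
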