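import Cfsg.Agent.Lib.H59.Homocyclic.SelfCent

/-!
The centraliser of one element of order `r`, when `r` is a primitive divisor with `φ(d)` equal to the rank.
-/

set_option autoImplicit false

namespace Cfsg.Agent.Lib.H59.Homocyclic

open Cfsg.Lie Cfsg.Agent.Lib.Chev Cfsg.Agent.Lib.ChevField
open scoped Matrix

variable {D : ChevalleyDatum} {C : Cert}

set_option maxHeartbeats 1000000 in
theorem centralizer_element (hh : Rooted D C) {F : Type*} [Field F] [Fintype F] {ds sd : List ℕ} {os : List OrbitCert}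
    (hs : SmithOK D C sd) (hc : chkChain D C (List.range D.rank) os = true) (hp : chkPoly D C os ds = true)
    (hl : ds.length = D.rank) (hW : (os.map fun o => o.orbit.length).prod = ds.prod)
    (hsd : ∀ i < D.rank, sd.getD i 0 = 1) (d : ℕ) (hd0 : 0 < d) (htot : d.totient = D.rank) (hdd : d ∈ ds)
    (r : ℕ) [Fact r.Prime] (hr : r ∣ ((Polynomial.cyclotomic d ℤ).eval (Fintype.card F : ℤ)).natAbs)
    (hrd : ¬ r ∣ d) (hds : ¬ r ∣ ds.prod)
    (hsq : ∀ l : ℕ, l.Prime → l ∣ d → ¬ l ^ 2 ∣ ((Polynomial.cyclotomic d ℤ).eval (Fintype.card F : ℤ)).natAbs)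
    (x0 : ↥(D.group F)) (hx0 : orderOf x0 = r) :
    IsCyclic ↥(Subgroup.centralizer ({x0} : Set ↥(D.group F))) ∧
      Nat.card ↥(Subgroup.centralizer ({x0} : Set ↥(D.group F))) =
        ((Polynomial.cyclotomic d ℤ).eval (Fintype.card F : ℤ)).natAbs := by
  classical
  have hpr : r.Prime := Fact.out
  have hdse : ∀ e ∈ ds, ¬ r ∣ e := fun e he h => hds (h.trans (List.dvd_prod he))
  have hsd' : ∀ i < D.rank, ¬ r ∣ sd.getD i 0 := fun i hi h => hpr.not_dvd_one (hsd i hi ▸ h)
  set q := Fintype.card F with hq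
  have hq2 : 2 ≤ q := Fintype.one_lt_card
  have hord : orderOf (q : ZMod r) = d := by
    refine isRoot_cyclotomic_order hrd ?_
    have h0 : (((Polynomial.cyclotomic d ℤ).eval (q : ℤ) : ℤ) : ZMod r) = 0 :=
      (ZMod.intCast_zmod_eq_zero_iff_dvd _ _).2 (Int.natCast_dvd.2 hr)
    rw [← Polynomial.map_cyclotomic_int d (ZMod r), ← Int.cast_natCast q, Polynomial.eval_intCast_map]
    exact_mod_cast h0
  have hrq : ¬ r ∣ q := fun h => by
    have : (q : ZMod r) = 0 := (ZMod.natCast_eq_zero_iff _ _).2 h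
    rw [this, orderOf_zero] at hord
    omega
  have hrqd : r ∣ q ^ d - 1 := by
    rw [← ZMod.natCast_eq_zero_iff, Nat.cast_sub (Nat.one_le_pow _ _ (by omega)), Nat.cast_pow, Nat.cast_one,
      ← hord, pow_orderOf_eq_one, sub_self]
  have hne : q ^ d - 1 ≠ 0 := by
    have : q ≤ q ^ d := Nat.le_self_pow (by omega) q
    omega
  -- the extension field
  obtain ⟨p, hpc⟩ := CharP.exists F
  haveI := hpc
  haveI : Fact p.Prime := ⟨CharP.char_is_prime F p⟩
  haveI : NeZero d := ⟨hd0.ne'⟩
  let K := FiniteField.Extension F p d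
  letI : Fintype K := Fintype.ofFinite K
  have hK : Fintype.card K = q ^ d := by
    rw [Fintype.card_eq_nat_card, FiniteField.natCard_extension, hq, Fintype.card_eq_nat_card]
  let f : F →+* K := algebraMap F K
  let σ : K →+* K := (FiniteField.frobeniusAlgHom F K : K →ₐ[F] K).toRingHom
  have hσ : ∀ x, σ x = x ^ q := fun x => rfl
  have hσf : ∀ a, σ (f a) = f a := fun a => (FiniteField.frobeniusAlgHom F K).commutes a
  have hfix : ∀ x, σ x = x → ∃ y, f y = x := fun x hx => exists_eq_of_pow_eq f x ((hσ x).symm.trans hx)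
  set M := q ^ d - 1 with hM
  haveI : NeZero M := ⟨hne⟩
  obtain ⟨z, hz⟩ := exists_zmodHom (K := K) (m := M) (by rw [Nat.card_eq_fintype_card, hK]) (NeZero.pos M)
  have hzs : Function.Surjective z := by
    refine ((Nat.bijective_iff_injective_and_card z).2 ⟨hz, ?_⟩).2
    rw [Nat.card_congr Multiplicative.toAdd, Nat.card_zmod, Nat.card_eq_fintype_card, Fintype.card_units, hK]
  obtain ⟨Bi, hBi, hBi'⟩ := exists_cmMat_inverse hs hsd
  have hinj : ∀ (R : Type) [CommRing R], Function.Injective (iota D R) := fun R _ =>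
    iota_injective_of_inverse hh.toChecked hBi R
  have hdiag : ∀ t ∈ D.diagonalSubgroup K, ∃ lam, tor z (Multiplicative.ofAdd (iota D (ZMod M) lam)) = t := by
    intro t ht
    rw [hh.diagonalSubgroup_eq] at ht
    obtain ⟨c, rfl⟩ := ht
    choose b hb using fun i : Fin D.rank => hzs (c i.val)
    refine ⟨fun i => (b i).toAdd, ?_⟩
    rw [tor_iota]
    exact torusHom_congr fun i hi => by rw [zcoord, dif_pos hi, ofAdd_toAdd, hb]
  -- a Sylow subgroup inside the torus
  have hrQ : ¬ r ∣ Fintype.card K := by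
    rw [hK]; exact fun h => hrq (hpr.dvd_of_dvd_pow h)
  obtain ⟨hGK, hkK⟩ := factorization_group hh (K := K) hs hc hp hsd' hdse hrQ
  rw [hK, show ((q ^ d : ℕ) : ZMod r) = 1 by rw [Nat.cast_pow, ← hord, pow_orderOf_eq_one], orderOf_one, pow_one,
    List.filter_eq_self.2 (fun e _ => by simp), hl, ← hM] at hGK
  let T : Subgroup ↥(D.group K) := (D.diagonalSubgroup K).subgroupOf (D.group K)
  have hcT : Nat.card ↥T = M ^ D.rank := by
    rw [Nat.card_congr (Subgroup.subgroupOfEquivOfLe hh.diagonal_le_group).toEquiv]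
    have h1 := hh.card_diagonal (F := K) hs
    rw [hK, ← hM, Finset.prod_eq_one (fun i _ => by rw [hsd i.val i.2, Nat.gcd_one_right]), one_mul] at h1
    exact h1
  let S0 : Sylow r ↥T := Classical.ofNonempty
  have hS1 : Nat.card ↥((S0 : Subgroup ↥T).map T.subtype) = r ^ (Nat.card ↥(D.group K)).factorization r := by
    rw [Subgroup.card_map_of_injective T.subtype_injective, S0.card_eq_multiplicity, hcT, hGK,
      Nat.factorization_pow]
    simp [mul_comm]
  let S1 : Sylow r ↥(D.group K) := Sylow.ofCard _ hS1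
  let φ : ↥(D.group F) →* ↥(D.group K) :=
    { toFun := fun x => ⟨glMap D f x, glMap_group_le f (Subgroup.mem_map_of_mem _ x.2)⟩
      map_one' := Subtype.ext (map_one (glMap D f))
      map_mul' := fun a b => Subtype.ext (map_mul (glMap D f) a.1 b.1) }
  have hp0 : IsPGroup r ↥(Subgroup.zpowers x0) :=
    IsPGroup.of_card (n := 1) (by rw [Nat.card_zpowers, hx0, pow_one])
  obtain ⟨Q, hQ⟩ := (hp0.map φ).exists_le_sylow
  obtain ⟨g, hg⟩ := MulAction.exists_smul_eq ↥(D.group K) Q S1
  let Φ : ↥(D.group F) →* GL D.Idx K :=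
    (MulAut.conj (g : GL D.Idx K)).toMonoidHom.comp ((glMap D f).comp (D.group F).subtype)
  have hΦ : ∀ x, Φ x = (g : GL D.Idx K) * glMap D f x * (g : GL D.Idx K)⁻¹ := fun x => rfl
  have hΦinj : Function.Injective Φ := fun x y e => by
    rw [hΦ, hΦ] at e
    exact Subtype.ext (glMap_injective f (mul_left_cancel (mul_right_cancel e)))
  have hΦG : ∀ x, Φ x ∈ D.group K := fun x => (g * φ x * g⁻¹).2
  have hx0T : Φ x0 ∈ D.diagonalSubgroup K := by
    have h1 : g * φ x0 * g⁻¹ ∈ (S1 : Subgroup ↥(D.group K)) := by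
      rw [← hg]
      exact Subgroup.smul_mem_pointwise_smul (φ x0) (MulAut.conj g) _
        (hQ (Subgroup.mem_map_of_mem φ (Subgroup.mem_zpowers x0)))
    obtain ⟨y, -, hy⟩ := h1
    have : (T.subtype y : ↥(D.group K)) ∈ T := y.2
    rw [hy] at this
    exact this
  obtain ⟨la, hla⟩ := hdiag _ hx0T
  have hla_r : r • la = 0 := by
    have h1 : Φ x0 ^ r = 1 := by rw [← map_pow, ← hx0, pow_orderOf_eq_one, map_one]
    rw [← hla, ← tor_smul, ← map_one (tor (D := D) z)] at h1
    have h2 := tor_injective hz h1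
    rw [← map_smul] at h2
    have h3 : (r : ZMod M) • la = 0 := hinj (ZMod M) ((Multiplicative.ofAdd.injective (h2.trans ofAdd_zero.symm)).trans
      (map_zero _).symm)
    rwa [Nat.cast_smul_eq_nsmul] at h3
  have hla0 : la ≠ 0 := by
    intro h0
    rw [h0, map_zero, ofAdd_zero, map_one] at hla
    have : x0 = 1 := hΦinj (hla.symm.trans (map_one Φ).symm)
    rw [this, orderOf_one] at hx0
    exact hpr.one_lt.ne hx0
  obtain ⟨c, hcM⟩ := hrqd
  have hc0 : c ≠ 0 := fun e => hne (by rw [hcM, e, mul_zero])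
  set e0 := redVec M r c la with he0
  have he0ne : e0 ≠ 0 := redVec_ne_zero hcM hpr.pos hla_r hla0
  set a := iota D (ZMod M) la with ha
  have haCW : a ∈ CW D (ZMod M) := ⟨la, rfl⟩
  have hcWeyl : ∀ k : ℕ, k ∣ Nat.card ↥(weyl hh.toChecked (Finset.range D.rank)) → ¬ r ∣ k := fun k hk h =>
    hds (by rw [← hW, ← card_weyl_eq hh hc]; exact h.trans hk)
  -- the twisting element
  set hel : GL D.Idx K := glMap D σ (g : GL D.Idx K) * (g : GL D.Idx K)⁻¹ with hhel
  have hhelG : hel ∈ D.group K :=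
    mul_mem (glMap_group_le σ (Subgroup.mem_map_of_mem _ g.2)) (inv_mem g.2)
  have hσΦ : ∀ x, glMap D σ (Φ x) = hel * Φ x * hel⁻¹ := by
    intro x
    have : σ.comp f = f := RingHom.ext hσf
    rw [hΦ, map_mul, map_mul, map_inv, glMap_glMap, this, hhel]
    group
  have hhela : hel * tor z (Multiplicative.ofAdd a) =
      tor z (Multiplicative.ofAdd ((q : ZMod M) • a)) * hel := by
    rw [← mul_inv_eq_iff_eq_mul, hla, ← hσΦ, ← hla, glMap_tor z σ q hσ]
  obtain ⟨L, hL, bo, hbo, uu, huu, hel_eq⟩ := hh.exists_canonical hhelG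
  set w := wperm hh.toChecked L with hw
  have hwW : w ∈ weyl hh.toChecked (Finset.range D.rank) := hh.toChecked.mem_weyl_of_word hL
  have hwa : act w a = (q : ZMod M) • a := by
    obtain ⟨u₁, hu₁, t₁, ht₁, rfl⟩ := hh.mem_borel_iff.1 hbo
    set t := tor z (Multiplicative.ofAdd a)
    set t' := tor z (Multiplicative.ofAdd ((q : ZMod M) • a))
    set tw := tor z (Multiplicative.ofAdd (act w a))
    set n := nProd hh.toChecked K L
    have ht : t ∈ D.diagonalSubgroup K := tor_mem hh.toChecked hh haCW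
    have ht' : t' ∈ D.diagonalSubgroup K := tor_mem hh.toChecked hh (Submodule.smul_mem _ _ haCW)
    have htw : tw ∈ D.diagonalSubgroup K := tor_mem hh.toChecked hh (act_mem hh.toChecked hwW haCW)
    have hnt : n * t = tw * n := nProd_conj_tor hh.toChecked hL a
    have hu' : t⁻¹ * uu * t ∈ rootGen D K (invSet D C L) := by
      have := (Subgroup.mem_normalizer_iff.1 (inv_mem (hh.diagonal_le_normalizer
        (S := invSet D C L) hh.toChecked.invSet_lt ht)) uu).1 huu
      simpa using this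
    have e := hhela
    rw [hel_eq] at e
    have e' : u₁ * t₁ * tw * n * (t⁻¹ * uu * t) = t' * (u₁ * t₁) * n * uu := by
      calc u₁ * t₁ * tw * n * (t⁻¹ * uu * t) = u₁ * t₁ * (tw * n) * t⁻¹ * uu * t := by group
        _ = u₁ * t₁ * (n * t) * t⁻¹ * uu * t := by rw [hnt]
        _ = u₁ * t₁ * n * uu * t := by group
        _ = t' * (u₁ * t₁ * n * uu) := e
        _ = _ := by group
    obtain ⟨eb, -⟩ := hh.canonical_unique hL
      (mul_mem hbo (Subgroup.mem_sup_right htw)) (mul_mem (Subgroup.mem_sup_right ht') hbo) hu' huu e'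
    have hu1' : t' * u₁ * t'⁻¹ ∈ D.posUnipotent K :=
      (Subgroup.mem_normalizer_iff.1 (hh.diagonal_le_normalizer_posUnipotent ht') u₁).1 hu₁
    have e1 : (t' * u₁ * t'⁻¹)⁻¹ * u₁ = t' * t₁ * (t₁ * tw)⁻¹ := by
      calc (t' * u₁ * t'⁻¹)⁻¹ * u₁ = t' * u₁⁻¹ * t'⁻¹ * (u₁ * t₁ * tw) * (t₁ * tw)⁻¹ := by group
        _ = _ := by rw [eb]; group
    have e2 : (t' * u₁ * t'⁻¹)⁻¹ * u₁ = 1 := by
      refine Subgroup.mem_bot.1 (hh.posUnipotent_inf_diagonal.le
        (Subgroup.mem_inf.2 ⟨mul_mem (inv_mem hu1') hu₁, ?_⟩))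
      rw [e1]
      exact mul_mem (mul_mem ht' ht₁) (inv_mem (mul_mem ht₁ htw))
    have e3 : t' = tw := by
      rw [e2, eq_comm, mul_inv_eq_one, hh.diagonal_commute ht₁ htw] at e1
      exact mul_right_cancel e1
    exact (Multiplicative.ofAdd.injective (tor_injective hz e3)).symm
  obtain ⟨W, hWm⟩ := exists_weylMat hh.toChecked hwW
  have hWa : W.map (Int.castRingHom (ZMod M)) *ᵥ la = (q : ZMod M) • la :=
    hinj (ZMod M) (by rw [hWm, map_smul, ← ha, hwa])
  have hWe : W.map (Int.castRingHom (ZMod r)) *ᵥ e0 = (q : ZMod r) • e0 := redVec_spec hcM hc0 hpr.pos hla_r W q hWa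
  have hWpow : ∀ (k : ℕ) (R : Type) [CommRing R] (lam : Fin D.rank → R),
      iota D R (W.map (Int.castRingHom R) ^ k *ᵥ lam) = act (w ^ k) (iota D R lam) := by
    intro k
    induction k with
    | zero => intro R _ lam; simp [act_one]
    | succ k ih => intro R _ lam; rw [pow_succ', ← Matrix.mulVec_mulVec, hWm, ih, pow_succ', act_mul]
  have hWo : W ^ orderOf w = 1 := by
    refine Matrix.ext_of_mulVec_single fun k => hinj ℤ ?_
    have h1 := hWpow (orderOf w) ℤ (Pi.single k 1)
    rw [pow_orderOf_eq_one, act_one] at h1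
    rw [Matrix.one_mulVec]
    refine Eq.trans ?_ h1
    congr 2
    first | done | (ext i j; simp)
  have how : ¬ r ∣ orderOf w := hcWeyl _ (by
    have := orderOf_dvd_natCard (⟨w, hwW⟩ : ↥(weyl hh.toChecked (Finset.range D.rank)))
    rwa [← Subgroup.orderOf_coe] at this)
  obtain ⟨hchar, hWd, hzero⟩ := charpoly_eq_cyclotomic (n := Fin D.rank) hord hd0
    (by rw [htot, Fintype.card_fin]) W hWo (orderOf_pos w) how he0ne hWe
  -- nothing fixes `a`
  have htriv : ∀ x ∈ weyl hh.toChecked (Finset.range D.rank), act x a = a → x = 1 := by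
    let C0 : Subgroup (Equiv.Perm (Fin D.nroots)) :=
      { carrier := {x | x ∈ weyl hh.toChecked (Finset.range D.rank) ∧ act x a = a}
        one_mem' := ⟨one_mem _, act_one a⟩
        mul_mem' := fun {x y} hx hy => ⟨mul_mem hx.1 hy.1, by rw [act_mul, hy.2, hx.2]⟩
        inv_mem' := fun {x} hx => ⟨inv_mem hx.1, by
          conv_lhs => rw [← hx.2]
          rw [← act_mul, inv_mul_cancel, act_one]⟩ }
    have hconj : ∀ x ∈ C0, w⁻¹ * x * w ∈ C0 := by
      intro x hx
      refine ⟨mul_mem (mul_mem (inv_mem hwW) hx.1) hwW, ?_⟩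
      rw [act_mul, act_mul, hwa, map_smul, hx.2, ← hwa, ← act_mul, inv_mul_cancel, act_one]
    haveI : Fintype ↥C0 := Fintype.ofFinite _
    choose X hX using fun x : ↥C0 => exists_weylMat hh.toChecked x.2.1
    set N : Matrix (Fin D.rank) (Fin D.rank) ℤ := ∑ x : ↥C0, X x with hN
    have hNact : ∀ (R : Type) [CommRing R] (lam : Fin D.rank → R),
        iota D R (N.map (Int.castRingHom R) *ᵥ lam) = ∑ x : ↥C0, act x.1 (iota D R lam) := by
      intro R _ lam
      have : N.map (Int.castRingHom R) = ∑ x : ↥C0, (X x).map (Int.castRingHom R) := by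
        ext i j; simp [hN, Matrix.sum_apply]
      rw [this, Matrix.sum_mulVec, map_sum]
      exact Finset.sum_congr rfl fun x _ => hX x R lam
    have hNe : N.map (Int.castRingHom (ZMod r)) *ᵥ e0 = (Fintype.card ↥C0 : ZMod r) • e0 := by
      have : N.map (Int.castRingHom (ZMod r)) = ∑ x : ↥C0, (X x).map (Int.castRingHom (ZMod r)) := by
        ext i j; simp [hN, Matrix.sum_apply]
      rw [this, Matrix.sum_mulVec, Nat.cast_smul_eq_nsmul, ← Finset.card_univ, ← Finset.sum_const]
      refine Finset.sum_congr rfl fun x _ => ?_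
      have := redVec_spec hcM hc0 hpr.pos hla_r (X x) 1 (by
        rw [Nat.cast_one, one_smul]; exact hinj (ZMod M) (by rw [hX, ← ha]; exact x.2.2))
      rwa [Nat.cast_one, one_smul] at this
    have hN0 : N ≠ 0 := by
      intro h0
      rw [h0, Matrix.map_zero _ (map_zero _), Matrix.zero_mulVec] at hNe
      have hcard : (Fintype.card ↥C0 : ZMod r) ≠ 0 := by
        rw [Ne, ZMod.natCast_eq_zero_iff, ← Nat.card_eq_fintype_card]
        exact hcWeyl _ (Subgroup.card_dvd_of_le (fun x hx => hx.1))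
      exact he0ne ((smul_eq_zero.1 hNe.symm).resolve_left hcard)
    obtain ⟨i, j, hij⟩ : ∃ i j, N i j ≠ 0 := by
      by_contra! h
      exact hN0 (Matrix.ext h)
    set v : Fin D.rank → ℚ := N.map (Int.castRingHom ℚ) *ᵥ Pi.single j 1 with hv
    have hv0 : v ≠ 0 := fun h => hij (by
      have := congrFun h i
      simpa [hv, Matrix.mulVec_single] using this)
    have hpowfix : ∀ k : ℕ, ∀ x ∈ C0, act x (act (w ^ k) (iota D ℚ v)) = act (w ^ k) (iota D ℚ v) := by
      intro k
      induction k with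
      | zero =>
        intro x hx
        rw [pow_zero, act_one, hv, hNact, map_sum]
        refine Fintype.sum_bijective (fun y : ↥C0 => (⟨x, hx⟩ : ↥C0) * y) (Group.mulLeft_bijective _) _ _ fun y => ?_
        rw [← act_mul]; rfl
      | succ k ih =>
        intro x hx
        have e : x * w ^ (k + 1) = w * (w⁻¹ * x * w * w ^ k) := by rw [pow_succ']; group
        rw [← act_mul, e, act_mul, act_mul, ih _ (hconj x hx), ← act_mul, pow_succ']
    have hspan := span_pow_mulVec (W := W.map (Int.castRingHom ℚ)) (Polynomial.cyclotomic.irreducible_rat hd0)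
      (by rw [Polynomial.natDegree_cyclotomic, htot, Fintype.card_fin]) hv0 (by rw [hzero, Matrix.zero_mulVec])
    intro x hxW hxa
    refine eq_one_of_act hh.toChecked hBi' fun lam => ?_
    have hall : (act x).comp (iota D ℚ) = iota D ℚ := by
      refine LinearMap.ext_on_range hspan fun k => ?_
      rw [LinearMap.comp_apply, hWpow]
      exact hpowfix k.val x ⟨hxW, hxa⟩
    funext s
    have h1 := congrFun (LinearMap.congr_fun hall (fun i => (lam i : ℚ))) s
    rw [LinearMap.comp_apply, act_apply, iota_apply, iota_apply] at h1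
    rw [act_apply, iota_apply, iota_apply]
    exact_mod_cast h1
  have hnv : ∀ s, a s ≠ 0 := by
    intro s hs0
    obtain ⟨x, hx, i, hi, rfl⟩ := exists_conj_simple hh s
    have h := hh.toChecked
    have hfixed : act (x * sigma h i * x⁻¹) a = a := by
      rw [act_mul, act_mul, fixed_of_apply_eq_zero h hi (act_mem h (inv_mem hx) haCW)
        (by rw [act_apply, inv_inv]; exact hs0), ← act_mul, mul_inv_cancel, act_one]
    have := htriv _ (mul_mem (mul_mem hx (h.sigma_mem_weyl (Finset.mem_range.2 hi))) (inv_mem hx)) hfixed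
    exact act_apply_root h hi (conj_eq_one_iff.1 this)
  have hqu : IsUnit (q : ZMod M) := by
    refine (ZMod.isUnit_iff_coprime _ _).2 ?_
    have hQ : q ∣ q ^ d := dvd_pow_self q hd0.ne'
    refine Nat.coprime_of_dvd' fun k _ h1 h2 => ?_
    have := Nat.dvd_sub (h1.trans hQ) h2
    rwa [hM, Nat.sub_sub_self (Nat.one_le_pow _ _ (by omega))] at this
  have hnq : ∀ s, ((q : ZMod M) • a) s ≠ 0 := fun s h => hnv s (hqu.mul_right_eq_zero.1 h)
  obtain ⟨L', t', hL', ht', hel', hwa'⟩ := monomial_of_conj hh hz haCW (Submodule.smul_mem _ _ haCW) hnv hnq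
    hhelG hhela
  set w' := wperm hh.toChecked L' with hw'
  have hwW' : w' ∈ weyl hh.toChecked (Finset.range D.rank) := hh.toChecked.mem_weyl_of_word hL'
  have hww : w' = w := by
    have := htriv (w⁻¹ * w') (mul_mem (inv_mem hwW) hwW') (by
      rw [act_mul, hwa', ← hwa, ← act_mul, inv_mul_cancel, act_one])
    rwa [inv_mul_eq_one, eq_comm] at this
  have hhelt : ∀ b ∈ CW D (ZMod M), hel * tor z (Multiplicative.ofAdd b) * hel⁻¹ =
      tor z (Multiplicative.ofAdd (act w b)) := by
    intro b hb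
    rw [mul_inv_eq_iff_eq_mul, hel', mul_assoc, nProd_conj_tor hh.toChecked hL', ← mul_assoc, ← mul_assoc, ← hw', hww,
      hh.diagonal_commute ht' (tor_mem hh.toChecked hh (act_mem hh.toChecked hwW hb))]
  let τ : Multiplicative ↥(twistFix W q M) →* GL D.Idx K :=
    { toFun := fun x => tor z (Multiplicative.ofAdd (iota D (ZMod M) x.toAdd.1))
      map_one' := by simp
      map_mul' := fun a b => by simp [ofAdd_add] }
  have hτ : Function.Injective τ := fun a b e => by
    have e1 := Multiplicative.ofAdd.injective (tor_injective hz e)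
    exact Multiplicative.toAdd.injective (Subtype.ext (hinj (ZMod M) e1))
  let H : Subgroup ↥(D.group F) := (D.diagonalSubgroup K).comap Φ
  have hH : ∀ x, x ∈ H ↔ Φ x ∈ D.diagonalSubgroup K := fun x => Iff.rfl
  have hmap : H.map Φ = τ.range := by
    refine le_antisymm ?_ ?_
    · rintro _ ⟨x, hx, rfl⟩
      obtain ⟨lam, hlam⟩ := hdiag _ ((hH x).1 hx)
      refine ⟨Multiplicative.ofAdd ⟨lam, ?_⟩, hlam⟩
      rw [mem_twistFix]
      refine hinj (ZMod M) ?_
      rw [hWm, map_smul]
      have h1 := hσΦ x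
      rw [← hlam, hhelt _ ⟨lam, rfl⟩, glMap_tor z σ q hσ] at h1
      exact (Multiplicative.ofAdd.injective (tor_injective hz h1)).symm
    · rintro _ ⟨⟨lam, hlam⟩, rfl⟩
      set y := tor (D := D) z (Multiplicative.ofAdd (iota D (ZMod M) lam)) with hy
      have hyT : y ∈ D.diagonalSubgroup K := tor_mem hh.toChecked hh ⟨lam, rfl⟩
      set y0 : GL D.Idx K := (g : GL D.Idx K)⁻¹ * y * (g : GL D.Idx K) with hy0
      have hy0G : y0 ∈ D.group K := mul_mem (mul_mem (inv_mem g.2) (hh.diagonal_le_group hyT)) g.2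
      have hfx : glMap D σ y0 = y0 := by
        have e1 : glMap D σ y = hel * y * hel⁻¹ := by
          rw [hy, hhelt _ ⟨lam, rfl⟩, glMap_tor z σ q hσ, ← map_smul, ← mem_twistFix.1 hlam, hWm]
        rw [hy0, map_mul, map_mul, map_inv, e1, hhel]
        group
      have hpow := pow_mem_map_of_fixed hh f σ hσf hfix hy0G hfx
      rw [card_ker_of_smith hs, Finset.prod_eq_one (fun i _ => by rw [hsd i.val i.2, Nat.gcd_one_right]),
        pow_one] at hpow
      obtain ⟨x, hx, ex⟩ := hpow
      have e : Φ ⟨x, hx⟩ = y := by rw [hΦ, ex, hy0]; group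
      exact ⟨⟨x, hx⟩, (hH _).2 (e.symm ▸ hyT), e⟩
  let eH : ↥H ≃* Multiplicative ↥(twistFix W q M) :=
    ((Subgroup.equivMapOfInjective H Φ hΦinj).trans (MulEquiv.subgroupCongr hmap)).trans
      (MonoidHom.ofInjective hτ).symm
  have hcyc := isAddCyclic_twistFix W q d hq2 hd0 hchar hWd hsq
  suffices hHC : Subgroup.centralizer ({x0} : Set ↥(D.group F)) = H by
    rw [hHC]
    refine ⟨?_, ?_⟩
    · exact isCyclic_of_surjective eH.symm eH.symm.surjective
    · rw [Nat.card_congr eH.toEquiv, Nat.card_congr Multiplicative.toAdd, card_twistFix W q d hq2 hd0 hWd, hchar]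
      rw [hchar]
      intro h0
      obtain ⟨c', hc'⟩ := Polynomial.cyclotomic.dvd_X_pow_sub_one d ℤ
      have := congrArg (Polynomial.eval (q : ℤ)) hc'
      rw [Polynomial.eval_mul, h0, zero_mul, Polynomial.eval_sub, Polynomial.eval_pow, Polynomial.eval_X,
        Polynomial.eval_one, sub_eq_zero] at this
      exact (one_lt_pow₀ (show (1 : ℤ) < (q : ℤ) by exact_mod_cast hq2) hd0.ne').ne' this
  refine le_antisymm (fun x hx => ?_) fun x hx => ?_
  · have hcomm := congrArg Φ (Subgroup.mem_centralizer_iff.1 hx x0 (Set.mem_singleton _))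
    rw [map_mul, map_mul, ← hla] at hcomm
    obtain ⟨L₂, t₂, hL₂, ht₂, hx2, hw2⟩ := monomial_of_conj hh hz haCW haCW hnv hnv (hΦG x) hcomm.symm
    have hone := htriv _ (hh.toChecked.mem_weyl_of_word hL₂) hw2
    have hd := hh.diag_of_wperm_eq (F := K) (L := []) (L' := L₂) (by simp [IsWord]) hL₂ (by rw [hone, wperm_nil])
    rw [show nProd hh.toChecked K ([] : List ℕ) = 1 from by simp [nProd], inv_one, one_mul] at hd
    exact (hH x).2 (hx2 ▸ mul_mem ht₂ hd)
  · refine Subgroup.mem_centralizer_iff.2 fun y hy => hΦinj ?_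
    obtain rfl := Set.mem_singleton_iff.1 hy
    rw [map_mul, map_mul, hh.diagonal_commute hx0T ((hH x).1 hx)]

end Cfsg.Agent.Lib.H59.Homocyclic
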