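import Cfsg.Agent.Lib.H59.F4Graph.Setting
import Cfsg.Agent.Lib.H59.Invol.Step
import Cfsg.Agent.Lib.Chev.Levi
import Cfsg.Agent.Lib.Chev.UnipotentCount
import Cfsg.Agent.Lib.Twisted.Monomial
import Cfsg.Agent.Lib.LinGroup.Order

/-! A rank one subgroup commuting with a Levi subgroup of rank three in type F4, characteristic two. -/

set_option autoImplicit false

namespace Cfsg.Agent.Lib.H59.F4Graph

open Cfsg.Lie Cfsg.Agent.Lib.Chev Cfsg.Agent.Lib.H59.Invol
open Cfsg.Agent.Lib.ChevCent (xg evenTerms)
open scoped Matrix MatrixGroups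

universe u

variable {D : ChevalleyDatum} {C : Cert} {F : Type u} [Field F]

theorem sl2_eq_of_entries {g h : SL(2, F)} (h00 : g 0 0 = h 0 0) (h01 : g 0 1 = h 0 1) (h10 : g 1 0 = h 1 0)
    (h11 : g 1 1 = h 1 1) : g = h := RankOneData.sl_ext h00 h01 h10 h11

/-- The rank one subgroup of a root conjugate to a fundamental one, injective in characteristic two. -/
theorem exists_psi [CharP F 2] (hh : Rooted D C) (hs : Twisted.chkEtaSigns D C = true) {i : ℕ} (hi : i < D.rank)
    {L : List ℕ} (hL : IsWord D L) :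
    ∃ ψ : SL(2, F) →* GL D.Idx F, Function.Injective ψ ∧
      ∀ g, ψ g ∈ rootGen D F {perm C L (D.simple i), ng D (perm C L (D.simple i))} := by
  have h := hh.toChecked
  have hr := h.simple_lt hi
  obtain ⟨φ, hφ, -, hmono, hdiag⟩ := exists_phi (F := F) hh hs hi
  have hinj : Function.Injective φ := by
    refine (injective_iff_map_eq_one φ).2 fun g hg => ?_
    by_cases h10 : g 1 0 = 0
    · have hd := RankOneData.det_eq g
      rw [h10, mul_zero, sub_zero] at hd
      have ha0 : g 0 0 ≠ 0 := fun e => by rw [e, zero_mul] at hd; exact zero_ne_one hd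
      obtain ⟨d00, d01, d10, d11⟩ := diag2_entries ha0
      have eg : g = diag2 (g 0 0) * RankOneData.upper (g 0 1 / g 0 0) := by
        refine sl2_eq_of_entries ?_ ?_ ?_ ?_ <;>
          simp [RankOneData.mul_entry, RankOneData.upper_entries, d00, d01, d10, d11, h10]
        · field_simp
        · exact eq_inv_of_mul_eq_one_right hd
      rw [eg, map_mul, (hφ _).1] at hg
      have hx : xg h (D.simple i) (g 0 1 / g 0 0) = 1 := by
        refine Subgroup.mem_bot.1 (hh.posUnipotent_inf_diagonal.le (Subgroup.mem_inf.2 ⟨?_, ?_⟩))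
        · rw [h.posUnipotent_eq]
          exact ChevCent.xg_mem_rootGen h (show D.simple i ∈ posSet D from ⟨(h.simple_spec hi).2, hr⟩) _
        · rw [show xg h (D.simple i) (g 0 1 / g 0 0) = (φ (diag2 (g 0 0)))⁻¹ from
            eq_inv_of_mul_eq_one_right hg]
          exact inv_mem (hdiag _ ha0)
      have hb : g 0 1 / g 0 0 = 0 := xg_inj h hr (hx.trans (ChevCent.xg_zero h _).symm)
      rw [hx, mul_one] at hg
      have e1 : diag2 (g 0 0) * RankOneData.upper 1 * (diag2 (g 0 0))⁻¹ = RankOneData.upper (g 0 0 * g 0 0) := by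
        rw [mul_inv_eq_iff_eq_mul]
        refine sl2_eq_of_entries ?_ ?_ ?_ ?_ <;>
          simp [RankOneData.mul_entry, RankOneData.upper_entries, d00, d01, d10, d11]
      have e2 := congrArg φ e1
      rw [map_mul, map_mul, map_inv, hg, one_mul, inv_one, mul_one, (hφ _).1, (hφ _).1] at e2
      have ha2 := xg_inj h hr e2
      have ha : g 0 0 = 1 := by
        have hz : (g 0 0 - 1) * (g 0 0 - 1) = 0 := by
          linear_combination -ha2 + (1 - g 0 0) * CharTwo.two_eq_zero (R := F)
        exact sub_eq_zero.1 (mul_self_eq_zero.1 hz)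
      rw [ha] at d00 d01 d10 d11
      rw [eg, hb, ha]
      refine sl2_eq_of_entries ?_ ?_ ?_ ?_ <;>
        simp [RankOneData.mul_entry, RankOneData.upper_entries, d00, d01, d10, d11]
    · exfalso
      set c := -(g 1 0)⁻¹ with hc
      have hc0 : c ≠ 0 := neg_ne_zero.2 (inv_ne_zero h10)
      obtain ⟨a00, a01, a10, a11⟩ := antid_entries hc0
      have hd := RankOneData.det_eq g
      have eg : g = RankOneData.upper (g 0 0 / g 1 0) * antid c * RankOneData.upper (g 1 1 / g 1 0) := by
        refine sl2_eq_of_entries ?_ ?_ ?_ ?_ <;>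
          simp [RankOneData.mul_entry, RankOneData.upper_entries, a00, a01, a10, a11] <;> simp only [hc] <;> field_simp
        linear_combination -hd
      rw [eg, map_mul, map_mul, (hφ _).1, (hφ _).1] at hg
      have hX : ∀ t, xg h (D.simple i) t ∈ D.borelSubgroup F := fun t => Subgroup.mem_sup_left (by
        rw [h.posUnipotent_eq]; exact ChevCent.xg_mem_rootGen h (show D.simple i ∈ posSet D from ⟨(h.simple_spec hi).2, hr⟩) t)
      have hm : φ (antid c) ∈ D.borelSubgroup F := by
        rw [show φ (antid c) = (xg h (D.simple i) (g 0 0 / g 1 0))⁻¹ *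
            (xg h (D.simple i) (g 1 1 / g 1 0))⁻¹ by
          rw [← mul_inv_rev, eq_inv_iff_mul_eq_one]
          have := congrArg (fun z => (xg h (D.simple i) (g 0 0 / g 1 0))⁻¹ * z *
            xg h (D.simple i) (g 0 0 / g 1 0)) hg
          simpa [mul_assoc] using this]
        exact mul_mem (inv_mem (hX _)) (inv_mem (hX _))
      obtain ⟨L₀, t, hL₀, ht, e, -⟩ := hmono c hc0
      have hmem : φ (antid c) ∈ D.monomialSubgroup F := by
        rw [e]
        exact mul_mem (hh.borel_inf_monomial.ge ht).2 (hh.nProd_mem_monomial hL₀)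
      have := (hmono c hc0).unique hh (isMono_diag h (hh.borel_inf_monomial.le ⟨hm, hmem⟩))
      exact Homocyclic.act_apply_root h hi this
  obtain ⟨k, -, hk⟩ := (isMono_nProd (F := F) h hL).conj_xg hh
  set n := nProd hh.toChecked F L
  refine ⟨(MulAut.conj n).toMonoidHom.comp φ, (MulAut.conj n).injective.comp hinj, fun g => ?_⟩
  have hgen : ∀ g : SL(2, F), g ∈ Subgroup.closure (Set.range (RankOneData.upper (F := F)) ∪
      Set.range (RankOneData.lower (F := F))) := by
    intro g
    have : g ∈ Subgroup.closure (Set.range (RankOneData.upper (F := F)) ∪ {RankOneData.wElt}) := by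
      rw [RankOneData.closure_gens]; trivial
    refine (Subgroup.closure_le _).2 ?_ this
    rintro x (⟨t, rfl⟩ | rfl)
    · exact Subgroup.subset_closure (Or.inl ⟨t, rfl⟩)
    · rw [show (RankOneData.wElt : SL(2, F)) = antid 1 by
        obtain ⟨a, b, c, d⟩ := antid_entries (one_ne_zero (α := F))
        refine sl2_eq_of_entries ?_ ?_ ?_ ?_ <;> simp [RankOneData.wElt_entries, a, b, c, d]]
      exact mul_mem (mul_mem (Subgroup.subset_closure (Or.inl ⟨_, rfl⟩))
        (Subgroup.subset_closure (Or.inr ⟨_, rfl⟩))) (Subgroup.subset_closure (Or.inl ⟨_, rfl⟩))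
  induction hgen g using Subgroup.closure_induction with
  | mem x hx =>
    rcases hx with ⟨t, rfl⟩ | ⟨t, rfl⟩
    · simp only [MonoidHom.comp_apply, MulEquiv.toMonoidHom_eq_coe, MonoidHom.coe_coe, MulAut.conj_apply, (hφ t).1]
      rw [hk ⟨D.simple i, hr⟩ t, h.wperm_val hL]
      exact ChevCent.xg_mem_rootGen h (Set.mem_insert _ _) _
    · simp only [MonoidHom.comp_apply, MulEquiv.toMonoidHom_eq_coe, MonoidHom.coe_coe, MulAut.conj_apply, (hφ t).2]
      have e := hk ⟨ng D (D.simple i), Checked.ng_lt hr⟩ t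
      rw [h.wperm_val hL] at e
      simp only at e
      rw [h.perm_ng hL hr] at e
      rw [e]
      exact ChevCent.xg_mem_rootGen h (Set.mem_insert_of_mem _ (Set.mem_singleton _)) _
  | one => rw [map_one]; exact one_mem _
  | mul a b _ _ x y => rw [map_mul]; exact mul_mem x y
  | inv a _ x => rw [map_inv]; exact inv_mem x

/-- A list containing the roots of the Levi subgroup of the nodes `1, 2, 3`. -/
def levRoots : List ℕ := (List.range 48).filter fun r => decide (coef chevF4 F4.cert 0 r = 0)

theorem lev_ok :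
    ([44, ng chevF4 44].all fun r => levRoots.all fun s => decide (s ≠ ng chevF4 r) &&
      (decide (s = r) || evenTerms F4.cert r s)) = true := by decide +kernel

theorem theta_eq : perm F4.cert [0, 1, 2, 3, 1, 2, 1] (chevF4.simple 0) = 44 := by decide +kernel

theorem node_one_mem : chevF4.simple 1 ∈ levRoots ∧ ng chevF4 (chevF4.simple 1) ∈ levRoots := by decide +kernel

theorem tail_chain : chkChain chevF4 F4.cert [1, 2, 3] [F4.orbit1, F4.orbit2, F4.orbit3] = true := by decide +kernel

theorem tail_poly :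
    (padd (pmul ((List.replicate 3 ([-1, 1] : List ℤ)).foldr pmul [1])
      (([F4.orbit1, F4.orbit2, F4.orbit3].map (orbitPoly chevF4 F4.cert)).foldr pmul [1]))
    (pscale (-1) ((([2, 4, 6] : List ℕ).map fun d => padd (pmono d) [-1]).foldr pmul [1]))).all
      (fun a => decide (a = 0)) = true := by decide +kernel

theorem tail_identity (x : ℤ) :
    (x - 1) ^ 3 * (([F4.orbit1, F4.orbit2, F4.orbit3]).map fun o => orbitSum chevF4 F4.cert o x).prod =
      (x ^ 2 - 1) * ((x ^ 4 - 1) * (x ^ 6 - 1)) := by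
  have h := pev_eq_zero x _ tail_poly
  rw [pev_padd, pev_pscale, pev_pmul, pev_foldr_pmul, pev_foldr_pmul, pev_foldr_pmul, List.map_map, List.map_map,
    List.map_replicate, List.prod_replicate] at h
  have e1 : pev x [-1, 1] = x - 1 := by simp [pev]; ring
  simp only [List.map_cons, List.map_nil, List.prod_cons, List.prod_nil, Function.comp_apply, pev_orbitPoly,
    pev_padd, pev_pmono, e1, mul_one] at h ⊢
  simp only [pev] at h
  linarith

/-- The Levi roots as a set. -/
def levSet : Set ℕ := {r | r ∈ levRoots}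

theorem subSet_le_levSet : subSet chevF4 F4.cert ({1, 2, 3} : Finset ℕ) ⊆ levSet := fun r hr => by
  show r ∈ levRoots
  simp only [levRoots, List.mem_filter, List.mem_range, decide_eq_true_eq]
  exact ⟨hr.1, hr.2 0 (by decide +kernel) (by decide)⟩

/-- The Levi part has the orders of the primitive divisors of degree two, three, four and six. -/
theorem dvd_card_levi {F : Type u} [Field F] [Fintype F] {s : ℕ} [Fact s.Prime] (hsq : ¬ s ∣ Fintype.card F)
    (hs1 : ¬ s ∣ Fintype.card F - 1)
    (hsd : s ∣ (Fintype.card F ^ 4 - 1) * (Fintype.card F ^ 6 - 1)) :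
    s ∣ Nat.card ↥(rootGen chevF4 F levSet) := by
  classical
  have hh := rootedF4
  have hp : s.Prime := Fact.out
  set q := Fintype.card F with hq
  set J : Finset ℕ := {1, 2, 3} with hJ
  have hJr : J ⊆ Finset.range chevF4.rank := by decide +kernel
  have hidx := hh.index_paraP (F := F) hJr (Finset.empty_subset J)
  have hsum : (∑ w ∈ (weylFinset hh.toChecked J).filter (fun w => ∀ k ∈ (∅ : Finset ℕ), Asc w k),
      q ^ (invs w).card) = ([F4.orbit1, F4.orbit2, F4.orbit3].map fun o => orbitSum chevF4 F4.cert o q).prod := by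
    rw [← hh.poinc_chain q _ _ tail_chain, poinc]
    refine Finset.sum_congr ?_ fun _ _ => rfl
    ext w
    simp [mem_weylFinset, hJ]
  have hsP : s ∣ Nat.card ↥(chevF4.parabolicSubgroup F (J : Set ℕ)) := by
    refine (dvd_trans ?_ (Subgroup.index_dvd_card (paraP chevF4 F J ∅)))
    rw [hidx, hsum]
    have e := tail_identity (q : ℤ)
    have e' : (([F4.orbit1, F4.orbit2, F4.orbit3]).map fun o => orbitSum chevF4 F4.cert o (q : ℤ)).prod =
        ((([F4.orbit1, F4.orbit2, F4.orbit3]).map fun o => orbitSum chevF4 F4.cert o q).prod : ℕ) := by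
      rw [Nat.cast_list_prod, List.map_map]
      congr 1
    rw [e'] at e
    set P := (([F4.orbit1, F4.orbit2, F4.orbit3]).map fun o => orbitSum chevF4 F4.cert o q).prod
    have h1q : 1 ≤ q := Fintype.card_pos
    have e2 : (q - 1) ^ 3 * P = (q ^ 2 - 1) * ((q ^ 4 - 1) * (q ^ 6 - 1)) := by
      apply Nat.cast_injective (R := ℤ)
      push_cast [Nat.cast_sub h1q, Nat.cast_sub (Nat.one_le_pow 2 q h1q), Nat.cast_sub (Nat.one_le_pow 4 q h1q),
        Nat.cast_sub (Nat.one_le_pow 6 q h1q)]
      exact e
    rcases (Nat.Prime.dvd_mul hp).1 ((hsd.mul_left (q ^ 2 - 1)).trans (dvd_of_eq e2.symm)) with h | h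
    · exact absurd (hp.dvd_of_dvd_pow h) hs1
    · exact h
  obtain ⟨hsup, hinf⟩ := hh.levi_decomposition (F := F) hJr
  set U := rootGen chevF4 F (outSet chevF4 F4.cert J) with hU
  set R := rootGen chevF4 F (subSet chevF4 F4.cert J) with hR
  set M := chevF4.diagonalSubgroup F ⊔ R with hM
  have hMN : M ≤ Subgroup.normalizer (U : Set (GL chevF4.Idx F)) := by
    refine le_trans ?_ (hh.parabolic_le_normalizer_any (F := F) hJr)
    rw [← hsup]
    exact le_sup_right
  rw [← hsup, card_sup_of_normalizing hMN hinf] at hsP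
  have hUq : ¬ s ∣ Nat.card ↥U := by
    intro h
    have h1 := h.trans (Subgroup.card_dvd_of_le (hh.outSet_rootGen_le (F := F) (J := J)))
    rw [hh.card_posUnipotent] at h1
    exact hsq (hp.dvd_of_dvd_pow h1)
  have hsM : s ∣ Nat.card ↥M := ((Nat.Prime.dvd_mul hp).1 hsP).resolve_left hUq
  by_contra hcon
  have hR' : ¬ s ∣ Nat.card ↥R := fun h => hcon (h.trans (Subgroup.card_dvd_of_le (rootGen_mono subSet_le_levSet)))
  obtain ⟨x, hx⟩ := exists_prime_orderOf_dvd_card' s hsM
  have hTN : chevF4.diagonalSubgroup F ≤ Subgroup.normalizer (R : Set (GL chevF4.Idx F)) :=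
    hh.diagonal_le_normalizer fun r hr => hr.1
  have hdec : ∃ a ∈ R, ∃ t ∈ chevF4.diagonalSubgroup F, a * t = (x : GL chevF4.Idx F) := by
    have h1 : (x : GL chevF4.Idx F) ∈ R ⊔ chevF4.diagonalSubgroup F := by rw [sup_comm]; exact x.2
    rwa [← SetLike.mem_coe, Subgroup.coe_mul_of_right_le_normalizer_left R _ hTN, Set.mem_mul] at h1
  -- the image in the torus quotient is trivial
  let N := R.subgroupOf M
  have hN : N.Normal := Subgroup.normal_subgroupOf_of_le_normalizer
    (sup_le hTN Subgroup.le_normalizer)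
  have hidxT : N.index ∣ Nat.card ↥(chevF4.diagonalSubgroup F) := by
    let π : ↥(chevF4.diagonalSubgroup F) →* ↥M ⧸ N :=
      (QuotientGroup.mk' N).comp (Subgroup.inclusion le_sup_left)
    have hsurj : Function.Surjective π := by
      intro y
      obtain ⟨m, rfl⟩ := QuotientGroup.mk'_surjective N y
      have h1 : (m : GL chevF4.Idx F) ∈ R ⊔ chevF4.diagonalSubgroup F := by rw [sup_comm]; exact m.2
      rw [← SetLike.mem_coe, Subgroup.coe_mul_of_right_le_normalizer_left R _ hTN, Set.mem_mul] at h1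
      obtain ⟨a, ha, t, ht, e⟩ := h1
      refine ⟨⟨t, ht⟩, (QuotientGroup.eq (s := N)).2 ?_⟩
      show (((Subgroup.inclusion le_sup_left ⟨t, ht⟩)⁻¹ * m : ↥M) : GL chevF4.Idx F) ∈ R
      have := (Subgroup.mem_normalizer_iff.1 (hTN (inv_mem ht)) a).1 ha
      simp only [Subgroup.coe_mul, Subgroup.coe_inv, Subgroup.coe_inclusion]
      rw [← e]
      simpa [mul_assoc] using this
    exact Subgroup.card_dvd_of_surjective π hsurj
  have hcard := N.index_mul_card
  rw [Nat.card_congr (Subgroup.subgroupOfEquivOfLe (le_sup_right : R ≤ M)).toEquiv] at hcard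
  rcases (Nat.Prime.dvd_mul hp).1 (hsM.trans (dvd_of_eq hcard.symm)) with h | h
  · have h2 := h.trans hidxT
    rw [card_diagonalF4] at h2
    exact hs1 (hp.dvd_of_dvd_pow h2)
  · exact hR' h

/-- An element whose order is a prime `r` dividing `q(q² - 1)` commuting with one whose order is a prime `s`
dividing `(q⁴ - 1)(q⁶ - 1)`. -/
theorem exists_commute_mixed {F : Type u} [Field F] [Fintype F] [CharP F 2] {r s : ℕ} [Fact r.Prime] [Fact s.Prime]
    (hr : r ∣ Fintype.card F * (Fintype.card F ^ 2 - 1)) (hsq : ¬ s ∣ Fintype.card F)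
    (hsd : s ∣ (Fintype.card F ^ 4 - 1) * (Fintype.card F ^ 6 - 1)) :
    ∃ x y : ↥(chevF4.group F), orderOf x = r ∧ orderOf y = s ∧ Commute x y := by
  classical
  have hh := rootedF4
  set q := Fintype.card F with hq
  have hcardSL : Nat.card (Matrix.SpecialLinearGroup (Fin 2) F) = q * (q ^ 2 - 1) := by
    have h := LinGroup.card_SL_mul (F := F) 2 (by norm_num)
    have hq1 := Fintype.one_lt_card (α := F)
    rw [Fin.prod_univ_two] at h
    simp only [Fin.val_zero, Fin.val_one, pow_zero, pow_one] at h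
    refine Nat.eq_of_mul_eq_mul_left (show 0 < q - 1 by omega) ?_
    rw [h, show q ^ 2 - q = q * (q - 1) by rw [Nat.mul_sub, mul_one, sq]]
    ring
  have hlt : ∀ a ∈ levRoots, a < chevF4.nroots := fun a ha => List.mem_range.1 (List.mem_filter.1 ha).1
  have hG : ∀ S : Set ℕ, (∀ a ∈ S, a < chevF4.nroots) → rootGen chevF4 F S ≤ chevF4.group F := fun S hS =>
    (Subgroup.closure_le _).2 fun g ⟨a, t, ha, e⟩ => Subgroup.subset_closure
      ⟨⟨a, hS a ha⟩, t, e.trans (by rw [ChevalleyDatum.x, dif_pos (hS a ha)])⟩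
  have hpair : ∀ a ∈ ({44, ng chevF4 44} : Set ℕ), a < chevF4.nroots := by
    rintro a (rfl | rfl) <;> decide +kernel
  obtain ⟨ψ, hψ, hψR⟩ := exists_psi (F := F) hh Twisted.etaSigns_F4 (i := 0) (by decide +kernel)
    (L := [0, 1, 2, 3, 1, 2, 1]) (by intro j hj; revert j; decide +kernel)
  rw [theta_eq] at hψR
  obtain ⟨a, ha⟩ := exists_prime_orderOf_dvd_card' r (hcardSL ▸ hr)
  have hsR : s ∣ Nat.card ↥(rootGen chevF4 F levSet) := by
    by_cases hs1 : s ∣ q - 1
    · obtain ⟨χ, hχ, hχR⟩ := exists_psi (F := F) hh Twisted.etaSigns_F4 (i := 1) (by decide +kernel)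
        (L := []) (by simp [IsWord])
      have hs2 : s ∣ Nat.card (Matrix.SpecialLinearGroup (Fin 2) F) := by
        rw [hcardSL, show q ^ 2 - 1 = (q + 1) * (q - 1) by
          simpa using Nat.sq_sub_sq q 1]
        exact Dvd.dvd.mul_left (Dvd.dvd.mul_left hs1 _) _
      obtain ⟨b, hb⟩ := exists_prime_orderOf_dvd_card' s hs2
      have hmem : χ b ∈ rootGen chevF4 F levSet := rootGen_mono (by
        rintro x (rfl | rfl)
        · exact node_one_mem.1
        · exact node_one_mem.2) (hχR b)
      have h1 := orderOf_dvd_natCard (⟨χ b, hmem⟩ : ↥(rootGen chevF4 F levSet))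
      rwa [← Subgroup.orderOf_coe, orderOf_injective χ hχ, hb] at h1
    · exact dvd_card_levi hsq hs1 hsd
  obtain ⟨b, hb⟩ := exists_prime_orderOf_dvd_card' s hsR
  have hcomm : Commute (ψ a) (b : GL chevF4.Idx F) := by
    have key : ∀ g ∈ rootGen chevF4 F levSet, ∀ g' ∈ rootGen chevF4 F ({44, ng chevF4 44} : Set ℕ),
        Commute g' g := by
      intro g hg g' hg'
      induction hg using Subgroup.closure_induction with
      | mem x hx =>
        obtain ⟨v, t, hv, e⟩ := hx
        induction hg' using Subgroup.closure_induction with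
        | mem x' hx' =>
          obtain ⟨w, t', hw, e'⟩ := hx'
          rw [show x = xg hh.toChecked v t from Units.ext (by rw [e, ChevCent.coe_xg]),
            show x' = xg hh.toChecked w t' from Units.ext (by rw [e', ChevCent.coe_xg])]
          have hok := lev_ok
          simp only [List.all_eq_true, List.mem_cons, List.not_mem_nil, or_false, Bool.and_eq_true,
            Bool.or_eq_true, decide_eq_true_eq] at hok
          obtain ⟨h1, h2⟩ := hok w hw v hv
          exact ChevCent.xg_commute hh.toChecked (hpair w hw) (hlt v hv) h1 h2 t t'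
        | one => exact Commute.one_left _
        | mul a b _ _ x y => exact x.mul_left y
        | inv a _ x => exact x.inv_left
      | one => exact Commute.one_right _
      | mul a b _ _ x y => exact x.mul_right y
      | inv a _ x => exact x.inv_right
    exact key _ b.2 _ (hψR a)
  refine ⟨⟨ψ a, hG _ hpair (hψR a)⟩, ⟨(b : GL chevF4.Idx F), hG _ (fun x hx => hlt x hx) b.2⟩, ?_, ?_,
    Subtype.ext hcomm⟩
  · rw [← Subgroup.orderOf_coe, orderOf_injective ψ hψ, ha]
  · rw [← Subgroup.orderOf_coe, Subgroup.orderOf_coe b, hb]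

end Cfsg.Agent.Lib.H59.F4Graph
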